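import Groth.Prelude.Def_GrLC

/-!
# Tools for gradings of modules

* `K963.Dec.proj ℳ g` : the projection of a graded module on its degree `g` piece, as an additive endomorphism;
* `K963.Dec.ofProj` : a decomposition from a family of projections;
* homogeneous maps commute with projections.
-/

set_option autoImplicit false
universe u v w

open DirectSum

namespace K963.Dec

section Proj

variable {ι : Type v} [DecidableEq ι] {M : Type u} [AddCommGroup M] {τ : Type w} [SetLike τ M]
  [AddSubgroupClass τ M] (ℳ : ι → τ) [DirectSum.Decomposition ℳ]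

/-- The projection on the piece of degree `g`. -/
def proj (g : ι) : M →+ M where
  toFun x := (DirectSum.decompose ℳ x g : M)
  map_zero' := by simp
  map_add' x y := by simp

lemma proj_apply (g : ι) (x : M) : proj ℳ g x = (DirectSum.decompose ℳ x g : M) := rfl

lemma proj_mem (g : ι) (x : M) : proj ℳ g x ∈ ℳ g := (DirectSum.decompose ℳ x g).2

lemma proj_of_mem {g : ι} {x : M} (hx : x ∈ ℳ g) : proj ℳ g x = x :=
  DirectSum.decompose_of_mem_same ℳ hx

lemma proj_of_mem_ne {g h : ι} {x : M} (hx : x ∈ ℳ g) (hne : g ≠ h) : proj ℳ h x = 0 :=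
  DirectSum.decompose_of_mem_ne ℳ hx hne

lemma proj_proj (g h : ι) (x : M) : proj ℳ g (proj ℳ h x) = if h = g then proj ℳ h x else 0 := by
  split_ifs with hh
  · subst hh; exact proj_of_mem ℳ (proj_mem ℳ h x)
  · exact proj_of_mem_ne ℳ (proj_mem ℳ h x) hh

lemma sum_proj (x : M) : ∃ s : Finset ι, (∀ g, g ∉ s → proj ℳ g x = 0) ∧ x = ∑ g ∈ s, proj ℳ g x := by
  classical
  refine ⟨(DirectSum.decompose ℳ x).support, fun g hg => ?_, (DirectSum.sum_support_decompose ℳ x).symm⟩
  simpa [proj_apply, DFinsupp.mem_support_iff] using hg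

lemma mem_iff_proj {g : ι} {x : M} : x ∈ ℳ g ↔ proj ℳ g x = x :=
  ⟨proj_of_mem ℳ, fun h => h ▸ proj_mem ℳ g x⟩

lemma mem_of_proj_eq_zero {g : ι} {x : M} (h : ∀ h, h ≠ g → proj ℳ h x = 0) : x ∈ ℳ g := by
  obtain ⟨s, hs, hx⟩ := sum_proj ℳ x
  rw [hx]
  refine sum_mem fun i _ => ?_
  by_cases hi : i = g
  · subst hi; exact proj_mem ℳ i x
  · rw [h i hi]; exact zero_mem _

lemma ext_proj {x y : M} (h : ∀ g, proj ℳ g x = proj ℳ g y) : x = y := by
  apply (DirectSum.decompose ℳ).injective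
  ext g
  exact h g

lemma eq_zero_of_proj {x : M} (h : ∀ g, proj ℳ g x = 0) : x = 0 :=
  ext_proj ℳ fun g => by rw [h g, map_zero]

end Proj

section OfProj

variable {ι : Type v} [DecidableEq ι] {M : Type u} [AddCommGroup M] {τ : Type w} [SetLike τ M]
  [AddSubgroupClass τ M]

/-- A decomposition from a family of projections. -/
@[instance_reducible]
noncomputable def ofProj (ℳ : ι → τ) (π : ι → M → M) (h0 : ∀ g x, π g x ∈ ℳ g)
    (hadd : ∀ g x y, π g (x + y) = π g x + π g y)
    (hne : ∀ g h x, x ∈ ℳ g → g ≠ h → π h x = 0)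
    (hsum : ∀ x, ∃ s : Finset ι, (∀ g, g ∉ s → π g x = 0) ∧ x = ∑ g ∈ s, π g x) :
    DirectSum.Decomposition ℳ := by
  classical
  have hz : ∀ g, π g 0 = 0 := fun g => by
    have := hadd g 0 0
    simpa using this
  have hsame : ∀ g x, x ∈ ℳ g → π g x = x := by
    intro g x hx
    obtain ⟨s, hs, hxs⟩ := hsum x
    have h1 : ∑ h ∈ s, π h x = π g x := by
      by_cases hg : g ∈ s
      · exact Finset.sum_eq_single g (fun h _ hh => hne g h x hx (Ne.symm hh)) (fun h => absurd hg h)
      · rw [Finset.sum_eq_zero (fun h hh => hne g h x hx (fun e => hg (e ▸ hh))), hs g hg]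
    rw [← h1]; exact hxs.symm
  let dec : M → ⨁ g, ℳ g := fun x =>
    ∑ g ∈ (hsum x).choose, DirectSum.of (fun g => ℳ g) g ⟨π g x, h0 g x⟩
  have hdec : ∀ x g, ((dec x) g : M) = π g x := by
    intro x g
    simp only [dec, DirectSum.sum_apply]
    by_cases hg : g ∈ (hsum x).choose
    · rw [Finset.sum_eq_single g]
      · rw [DirectSum.of_eq_same]
      · intro h _ hh
        exact DirectSum.of_eq_of_ne _ _ _ (Ne.symm hh)
      · intro h; exact absurd hg h
    · rw [Finset.sum_eq_zero, (hsum x).choose_spec.1 g hg]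
      · rfl
      · intro h hh
        have : h ≠ g := fun e => hg (e ▸ hh)
        exact DirectSum.of_eq_of_ne _ _ _ (Ne.symm this)
  refine ⟨dec, fun x => ?_, fun x => ?_⟩
  · have : (DirectSum.coeAddMonoidHom ℳ) (dec x) = x := by
      simp only [dec, map_sum, DirectSum.coeAddMonoidHom_of]
      exact (hsum x).choose_spec.2.symm
    exact this
  · ext g
    rw [hdec]
    induction x using DirectSum.induction_on with
    | zero => simp [hz]
    | of h y =>
      rw [DirectSum.coeAddMonoidHom_of]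
      by_cases hh : h = g
      · subst hh; rw [hsame h _ y.2, DirectSum.of_eq_same]
      · rw [hne h g _ y.2 hh, DirectSum.of_eq_of_ne _ _ _ (Ne.symm hh)]; rfl
    | add x y hx hy =>
      rw [map_add, hadd, hx, hy]; rfl

lemma proj_ofProj (ℳ : ι → τ) (π : ι → M → M) (h0 : ∀ g x, π g x ∈ ℳ g)
    (hsum : ∀ x, ∃ s : Finset ι, (∀ g, g ∉ s → π g x = 0) ∧ x = ∑ g ∈ s, π g x) (g : ι) (x : M)
    [DirectSum.Decomposition ℳ] :
    proj ℳ g x = π g x := by
  obtain ⟨s, hs, hxs⟩ := hsum x
  conv_lhs => rw [hxs]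
  rw [map_sum]
  by_cases hg : g ∈ s
  · rw [Finset.sum_eq_single g]
    · exact proj_of_mem ℳ (h0 g x)
    · intro h _ hh
      exact proj_of_mem_ne ℳ (h0 h x) hh
    · intro h; exact absurd hg h
  · rw [Finset.sum_eq_zero, hs g hg]
    intro h hh
    exact proj_of_mem_ne ℳ (h0 h x) (fun e => hg (e ▸ hh))

end OfProj

section Hom

variable {ι : Type v} [DecidableEq ι] {M : Type u} [AddCommGroup M] {τ : Type w} [SetLike τ M]
  [AddSubgroupClass τ M] (ℳ : ι → τ) [DirectSum.Decomposition ℳ]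
  {N : Type u} [AddCommGroup N] {τ' : Type w} [SetLike τ' N]
  [AddSubgroupClass τ' N] (𝒩 : ι → τ') [DirectSum.Decomposition 𝒩]

lemma map_proj {F : Type*} [FunLike F M N] [AddMonoidHomClass F M N] (f : F)
    (hf : ∀ g x, x ∈ ℳ g → f x ∈ 𝒩 g) (g : ι) (x : M) : f (proj ℳ g x) = proj 𝒩 g (f x) := by
  obtain ⟨s, hs, hx⟩ := sum_proj ℳ x
  conv_rhs => rw [hx]
  rw [map_sum, map_sum]
  by_cases hg : g ∈ s
  · rw [Finset.sum_eq_single g]
    · exact (proj_of_mem 𝒩 (hf g _ (proj_mem ℳ g x))).symm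
    · intro h _ hh
      exact proj_of_mem_ne 𝒩 (hf h _ (proj_mem ℳ h x)) hh
    · intro h; exact absurd hg h
  · rw [Finset.sum_eq_zero, hs g hg, map_zero]
    intro h hh
    exact proj_of_mem_ne 𝒩 (hf h _ (proj_mem ℳ h x)) (fun e => hg (e ▸ hh))

end Hom

end K963.Dec
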