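import Groth.Agent.GrLC.K963.Gam
import Groth.Agent.GrLC.K761.Baer
import Mathlib.RingTheory.Filtration

/-!
# The torsion submodule of a *injective module over a Noetherian graded ring is *injective
-/

set_option autoImplicit false
set_option linter.unusedVariables false
set_option linter.unusedSectionVars false
universe u

open GrLC K963.Cat K761.Gr K761.Baer

namespace K963.Tors

variable {ι : Type} [AddCommGroup ι] [DecidableEq ι]
variable {R : Type u} [CommRing R] {σ : Type u} [SetLike σ R] [AddSubgroupClass σ R]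
variable (𝒜 : ι → σ) [GradedRing 𝒜]
variable {M : Type u} [AddCommGroup M] [Module R M] {τ : Type u} [SetLike τ M] [AddSubgroupClass τ M]
  (ℳ : ι → τ) [DirectSum.Decomposition ℳ] [SetLike.GradedSMul 𝒜 ℳ]
variable {E : Type u} [AddCommGroup E] [Module R E]

/-- Baer's argument for homogeneous submodules. -/
theorem extend_of_ideals
    (hE : ∀ J : Ideal R, J.IsHomogeneous 𝒜 → ∀ φ : J →ₗ[R] E, ∃ y : E, ∀ r : J, φ r = (r : R) • y)
    {K : Submodule R M} (hK : K.IsHomogeneous ℳ) (g : K →ₗ[R] E) : ∃ h : M →ₗ[R] E, h ∘ₗ K.subtype = g := by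
  classical
  let S : Set (M →ₗ.[R] E) := {f | f.domain.IsHomogeneous ℳ}
  have hx0 : (⟨K, g⟩ : M →ₗ.[R] E) ∈ S := hK
  obtain ⟨f, hle, hmax⟩ := zorn_le_nonempty₀ S (fun c hc hchain y hy => by
    have hdir : DirectedOn (· ≤ ·) c := hchain.directedOn
    refine ⟨LinearPMap.sSup c hdir, ?_, fun z hz => LinearPMap.le_sSup hdir hz⟩
    intro i x hx
    have hx' := (LinearPMap.mem_domain_sSup_iff ⟨y, hy⟩ hdir).1 hx
    obtain ⟨f, hf, hxf⟩ := hx'
    exact (LinearPMap.mem_domain_sSup_iff ⟨y, hy⟩ hdir).2 ⟨f, hf, hc hf i hxf⟩) _ hx0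
  have hfS : f.domain.IsHomogeneous ℳ := hmax.prop
  have htop : f.domain = ⊤ := by
    by_contra hne
    obtain ⟨j, x, hx, hxn⟩ : ∃ (j : ι) (x : M), x ∈ ℳ j ∧ x ∉ f.domain := by
      by_contra hc
      push Not at hc
      apply hne
      rw [eq_top_iff]
      rintro m -
      induction m using K761.Gr.induction ℳ with
      | h0 => exact zero_mem _
      | hadd a b ha hb => exact add_mem ha hb
      | hom i m hm => exact hc i m hm
    let I : Submodule R R := f.domain.comap (LinearMap.toSpanSingleton R M x)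
    have hI : I.IsHomogeneous 𝒜 := by
      intro i r hr
      change (pr 𝒜 i r) • x ∈ f.domain
      rw [← pr_smul_right 𝒜 ℳ r hx i]
      exact hfS _ hr
    let g' : I →ₗ[R] E := f.toFun.comp ((LinearMap.toSpanSingleton R M x).restrict (fun r hr => hr))
    obtain ⟨y, hh⟩ := hE I hI g'
    have he : ∀ (r : R) (hr : r • x ∈ f.domain), f ⟨r • x, hr⟩ = r • y := fun r hr => hh ⟨r, hr⟩
    have H : ∀ c : R, c • x = 0 → (RingHom.id R) c • y = 0 := by
      intro c hc
      rw [RingHom.id_apply, ← he c (by rw [hc]; exact zero_mem _)]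
      have : (⟨c • x, by rw [hc]; exact zero_mem _⟩ : f.domain) = 0 := Subtype.ext hc
      rw [this, LinearPMap.map_zero]
    let f₂ : M →ₗ.[R] E := LinearPMap.mkSpanSingleton' x y H
    have hcomp : ∀ (a : f.domain) (b : f₂.domain), (a : M) = b → f a = f₂ b := by
      rintro ⟨a, ha⟩ ⟨b, hb⟩ (hab : a = b)
      subst hab
      obtain ⟨c, rfl⟩ := Submodule.mem_span_singleton.1 hb
      rw [he c ha]
      exact (LinearPMap.mkSpanSingleton'_apply x y H c hb).symm
    have hle' : f.sup f₂ hcomp ≤ f := hmax.le_of_ge (y := f.sup f₂ hcomp) (by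
        change (f.domain ⊔ (R ∙ x)).IsHomogeneous ℳ
        intro i m hm
        rw [Submodule.mem_sup] at hm ⊢
        obtain ⟨a, ha, b, hb, rfl⟩ := hm
        obtain ⟨c, rfl⟩ := Submodule.mem_span_singleton.1 hb
        refine ⟨pr ℳ i a, hfS i ha, pr ℳ i (c • x), ?_, (map_add (pr ℳ i) _ _).symm⟩
        rw [Submodule.mem_span_singleton]
        refine ⟨pr 𝒜 (i - j) c, ?_⟩
        rw [← pr_smul_right 𝒜 ℳ c hx, sub_add_cancel]) (LinearPMap.left_le_sup _ _ _)
    exact hxn (hle'.1 (Submodule.mem_sup_right (Submodule.mem_span_singleton_self x)))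
  refine ⟨f.toFun.comp (LinearMap.codRestrict f.domain LinearMap.id fun m => htop ▸ trivial), ?_⟩
  ext x
  exact (hle.2 (x := x) (y := ⟨x, htop ▸ trivial⟩) rfl).symm

/-- The graded Baer criterion (non-homogeneous form). -/
theorem isStarInj_of_ideals (X : GMod.{u} 𝒜)
    (hX : ∀ J : Ideal R, J.IsHomogeneous 𝒜 → ∀ φ : J →ₗ[R] X.carrier,
      ∃ y : X.carrier, ∀ r : J, φ r = (r : R) • y) : IsStarInj 𝒜 X.gr := by
  intro A B f hf hinj g hg
  have hK : (LinearMap.range f).IsHomogeneous B.gr := isHomogeneous_range (mk (X := A) (Y := B) f hf)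
  obtain ⟨h, hh⟩ := extend_of_ideals 𝒜 B.gr hX hK
    (g ∘ₗ (LinearEquiv.ofInjective f hinj).symm.toLinearMap)
  refine ⟨homPr 𝒜 B.gr X.gr h 0, fun k x hx => ?_, ?_⟩
  · have := homPr_isGrHomDeg 𝒜 B.gr X.gr h 0 k x hx
    rw [add_zero] at this
    exact this
  · ext x
    induction x using K761.Gr.induction A.gr with
    | h0 => simp
    | hadd a b ha hb => rw [map_add, ha, hb, map_add]
    | hom i m hm =>
      rw [LinearMap.comp_apply, homPr_of_mem 𝒜 B.gr X.gr h 0 (hf i m hm), add_zero]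
      have h1 : h (f m) = g m := by
        have h2 := LinearMap.congr_fun hh ⟨f m, ⟨m, rfl⟩⟩
        refine h2.trans ?_
        change g ((LinearEquiv.ofInjective f hinj).symm ⟨f m, ⟨m, rfl⟩⟩) = g m
        congr 1
        rw [LinearEquiv.symm_apply_eq]
        rfl
      rw [h1]
      exact pr_of_mem (hg i m hm)

/-- Over a Noetherian ring the torsion part of a *injective graded module satisfies the Baer condition. -/
theorem gam_baer [IsNoetherianRing R] (a : HomogeneousIdeal 𝒜) (X : GMod.{u} 𝒜) (hX : IsStarInj 𝒜 X.gr)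
    (J : Ideal R) (hJ : J.IsHomogeneous 𝒜) (φ : J →ₗ[R] gam a.toIdeal X.carrier) :
    ∃ y : gam a.toIdeal X.carrier, ∀ r : J, φ r = (r : R) • y := by
  classical
  -- a power of `a` kills the image
  have hfg : J.FG := IsNoetherian.noetherian J
  obtain ⟨n, hn⟩ : ∃ n : ℕ, ∀ r ∈ a.toIdeal ^ n, ∀ j : J, r • φ j = 0 := by
    have : Module.Finite R J := Module.Finite.iff_fg.mpr hfg
    obtain ⟨s, hs⟩ := (Module.finite_def.mp this)
    have h1 : ∀ j : J, ∃ n : ℕ, ∀ r ∈ a.toIdeal ^ n, r • φ j = 0 := fun j => by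
      obtain ⟨n, hn⟩ := (φ j).2
      exact ⟨n, fun r hr => Subtype.ext (hn r hr)⟩
    choose N hN using h1
    refine ⟨s.sup N, fun r hr j => ?_⟩
    have hj : j ∈ Submodule.span R (s : Set J) := hs ▸ Submodule.mem_top
    induction hj using Submodule.span_induction with
    | mem x hx => exact hN x r (Ideal.pow_le_pow_right (Finset.le_sup hx) hr)
    | zero => rw [map_zero, smul_zero]
    | add x y _ _ hx hy => rw [map_add, smul_add, hx, hy, add_zero]
    | smul c x _ hx => rw [map_smul, smul_comm, hx, smul_zero]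
  -- Artin-Rees
  obtain ⟨k, hk⟩ := Ideal.exists_pow_inf_eq_pow_smul a.toIdeal (N := (J : Submodule R R))
  have hAR : ∀ x ∈ a.toIdeal ^ (n + k), x ∈ J → x ∈ a.toIdeal ^ n • (J : Submodule R R) := by
    intro x hx hxJ
    have h1 := hk (n + k) (Nat.le_add_left k n)
    have h2 : x ∈ a.toIdeal ^ (n + k) • (⊤ : Submodule R R) ⊓ (J : Submodule R R) := by
      refine ⟨?_, hxJ⟩
      rw [smul_eq_mul, ← Ideal.one_eq_top, mul_one]; exact hx
    rw [h1, Nat.add_sub_cancel] at h2
    exact Submodule.smul_mono le_rfl inf_le_right h2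
  have hzero : ∀ x (hx : x ∈ J), x ∈ a.toIdeal ^ (n + k) → φ ⟨x, hx⟩ = 0 := by
    intro x hx hxa
    have h1 := hAR x hxa hx
    have h2 : ∀ y ∈ a.toIdeal ^ n • (J : Submodule R R), ∃ hy : y ∈ J, φ ⟨y, hy⟩ = 0 := by
      intro y hy
      induction hy using Submodule.smul_induction_on' with
      | smul r hr m hm =>
        refine ⟨J.smul_mem r hm, ?_⟩
        have : (⟨r • m, J.smul_mem r hm⟩ : J) = r • ⟨m, hm⟩ := rfl
        rw [this, map_smul, hn r hr]
      | add x _ y _ hx hy =>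
        obtain ⟨hx1, hx2⟩ := hx
        obtain ⟨hy1, hy2⟩ := hy
        refine ⟨J.add_mem hx1 hy1, ?_⟩
        have : (⟨x + y, J.add_mem hx1 hy1⟩ : J) = ⟨x, hx1⟩ + ⟨y, hy1⟩ := rfl
        rw [this, map_add, hx2, hy2, add_zero]
    exact (h2 x h1).2
  -- extend by zero on a power of `a`
  let f₁ : R →ₗ.[R] X.carrier := ⟨J, (gam a.toIdeal X.carrier).subtype ∘ₗ φ⟩
  let f₂ : R →ₗ.[R] X.carrier := ⟨a.toIdeal ^ (n + k), 0⟩
  have hcomp : ∀ (x : f₁.domain) (y : f₂.domain), (x : R) = y → f₁ x = f₂ y := by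
    rintro ⟨x, hx⟩ ⟨y, hy⟩ (hxy : x = y)
    subst hxy
    exact congrArg Subtype.val (hzero x hx hy)
  let f := f₁.sup f₂ hcomp
  have hdom : f.domain.IsHomogeneous 𝒜 := hJ.sup (isHomogeneous_pow a (n + k))
  have : SetLike.GradedSMul 𝒜 𝒜 := ⟨fun {i j r m} hr hm => SetLike.mul_mem_graded hr hm⟩
  obtain ⟨h, hh⟩ := extend 𝒜 𝒜 hX hdom f.toFun
  have h1 : ∀ r (hr : r ∈ J), h r = φ ⟨r, hr⟩ := by
    intro r hr
    have h2 := LinearMap.congr_fun hh ⟨r, Submodule.mem_sup_left hr⟩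
    refine h2.trans ?_
    exact ((LinearPMap.left_le_sup f₁ f₂ hcomp).2 (x := ⟨r, hr⟩)
      (y := ⟨r, Submodule.mem_sup_left hr⟩) rfl).symm
  have h2 : ∀ r ∈ a.toIdeal ^ (n + k), h r = 0 := by
    intro r hr
    have h2 := LinearMap.congr_fun hh ⟨r, Submodule.mem_sup_right hr⟩
    refine h2.trans ?_
    exact ((LinearPMap.right_le_sup f₁ f₂ hcomp).2 (x := ⟨r, hr⟩)
      (y := ⟨r, Submodule.mem_sup_right hr⟩) rfl).symm
  have h3 : ∀ r, h r = r • h 1 := fun r => by rw [← map_smul, smul_eq_mul, mul_one]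
  refine ⟨⟨h 1, n + k, fun r hr => by rw [← h3, h2 r hr]⟩, fun r => Subtype.ext ?_⟩
  rw [← h1 r r.2, h3]; rfl

end K963.Tors
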