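import Groth.Agent.GrLC.K963.LES
import Groth.Agent.GrLC.K963.Tors

/-!
# Torsion modules are acyclic; the comparison theorem
-/

set_option autoImplicit false
set_option linter.unusedVariables false
set_option linter.unusedSectionVars false
universe v u v' u'

open CategoryTheory CategoryTheory.Limits GrLC

namespace K963.Comp

section Abs

variable {C : Type u} [Category.{v} C] [Abelian C] [HasInjectiveResolutions C]
variable {D : Type u'} [Category.{v'} D] [Abelian D] (F : C ⥤ D) [F.Additive]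
variable {S : ShortComplex C} (hS : S.ShortExact)

include hS

lemma rd_map_comp_zero (n : ℕ) : (F.rightDerived n).map S.f ≫ (F.rightDerived n).map S.g = 0 := by
  rw [← Functor.map_comp, S.zero, Iface.rightDerived_map_zero]

lemma iso_of_mid_zero (n : ℕ) (h : IsZero ((F.rightDerived n).obj S.X₂))
    (h' : IsZero ((F.rightDerived (n + 1)).obj S.X₂)) :
    Nonempty ((F.rightDerived n).obj S.X₃ ≅ (F.rightDerived (n + 1)).obj S.X₁) := by
  obtain ⟨-, -, δ, hδ⟩ := Groth.Agent.Cohder.RDLES.exists_les F hS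
  obtain ⟨w₁, w₂, e₁, e₂⟩ := hδ n
  have : Mono (δ n) := e₁.mono_g (h.eq_of_src _ _)
  have : Epi (δ n) := e₂.epi_f (h'.eq_of_tgt _ _)
  have : IsIso (δ n) := isIso_of_mono_of_epi _
  exact ⟨asIso (δ n)⟩

lemma iso_of_left_zero (n : ℕ) (h : IsZero ((F.rightDerived n).obj S.X₁))
    (h' : IsZero ((F.rightDerived (n + 1)).obj S.X₁)) :
    Nonempty ((F.rightDerived n).obj S.X₂ ≅ (F.rightDerived n).obj S.X₃) := by
  obtain ⟨-, e, δ, hδ⟩ := Groth.Agent.Cohder.RDLES.exists_les F hS
  obtain ⟨w₁, w₂, e₁, e₂⟩ := hδ n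
  have hm : Mono ((F.rightDerived n).map S.g) :=
    (e n (rd_map_comp_zero F hS n)).mono_g (h.eq_of_src _ _)
  have he : Epi ((F.rightDerived n).map S.g) := e₁.epi_f (h'.eq_of_tgt _ _)
  have : IsIso ((F.rightDerived n).map S.g) := isIso_of_mono_of_epi _
  exact ⟨asIso ((F.rightDerived n).map S.g)⟩

lemma iso_of_right_zero (n : ℕ) (h : IsZero ((F.rightDerived n).obj S.X₃))
    (h' : IsZero ((F.rightDerived (n + 1)).obj S.X₃)) :
    Nonempty ((F.rightDerived (n + 1)).obj S.X₁ ≅ (F.rightDerived (n + 1)).obj S.X₂) := by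
  obtain ⟨-, e, δ, hδ⟩ := Groth.Agent.Cohder.RDLES.exists_les F hS
  obtain ⟨w₁, w₂, e₁, e₂⟩ := hδ n
  have hm : Mono ((F.rightDerived (n + 1)).map S.f) := e₂.mono_g (h.eq_of_src _ _)
  have he : Epi ((F.rightDerived (n + 1)).map S.f) :=
    (e (n + 1) (rd_map_comp_zero F hS (n + 1))).epi_f (h'.eq_of_tgt _ _)
  have : IsIso ((F.rightDerived (n + 1)).map S.f) := isIso_of_mono_of_epi _
  exact ⟨asIso ((F.rightDerived (n + 1)).map S.f)⟩

lemma iso_zero_of_right_zero (h : IsZero ((F.rightDerived 0).obj S.X₃)) :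
    Nonempty ((F.rightDerived 0).obj S.X₁ ≅ (F.rightDerived 0).obj S.X₂) := by
  obtain ⟨hm, e, -⟩ := Groth.Agent.Cohder.RDLES.exists_les F hS
  have he : Epi ((F.rightDerived 0).map S.f) :=
    (e 0 (rd_map_comp_zero F hS 0)).epi_f (h.eq_of_tgt _ _)
  have : IsIso ((F.rightDerived 0).map S.f) := isIso_of_mono_of_epi _
  exact ⟨asIso ((F.rightDerived 0).map S.f)⟩

lemma zero_of_mono (h : IsZero ((F.rightDerived 0).obj S.X₂)) : IsZero ((F.rightDerived 0).obj S.X₁) := by
  obtain ⟨hm, -, -⟩ := Groth.Agent.Cohder.RDLES.exists_les F hS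
  exact IsZero.of_mono ((F.rightDerived 0).map S.f) h

lemma zero_X₁ (n : ℕ) (h₃ : IsZero ((F.rightDerived n).obj S.X₃))
    (h₂ : IsZero ((F.rightDerived (n + 1)).obj S.X₂)) :
    IsZero ((F.rightDerived (n + 1)).obj S.X₁) := by
  obtain ⟨-, -, δ, hδ⟩ := Groth.Agent.Cohder.RDLES.exists_les F hS
  obtain ⟨w₁, w₂, h, h'⟩ := hδ n
  exact h'.isZero_of_both_zeros (h₃.eq_of_src _ _) (h₂.eq_of_tgt _ _)

lemma zero_X₁_one [PreservesFiniteLimits F] (he : Epi (F.map S.g))
    (h₂ : IsZero ((F.rightDerived 1).obj S.X₂)) : IsZero ((F.rightDerived 1).obj S.X₁) := by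
  obtain ⟨-, -, δ, hδ⟩ := Groth.Agent.Cohder.RDLES.exists_les F hS
  obtain ⟨w₁, w₂, h, h'⟩ := hδ 0
  have he' : Epi ((F.rightDerived 0).map S.g) := by
    have h1 := F.rightDerivedZeroIsoSelf.hom.naturality S.g
    have h2 : (F.rightDerived 0).map S.g =
        F.rightDerivedZeroIsoSelf.hom.app S.X₂ ≫ F.map S.g ≫ F.rightDerivedZeroIsoSelf.inv.app S.X₃ := by
      rw [← reassoc_of% h1]
      simp
    rw [h2]
    infer_instance
  have h0 : δ 0 = 0 := by
    rw [← cancel_epi ((F.rightDerived 0).map S.g), w₁, comp_zero]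
  exact h'.isZero_of_both_zeros h0 (h₂.eq_of_tgt _ _)

end Abs

open K963.Cat

variable {ι : Type} [AddCommGroup ι] [DecidableEq ι]
variable {R : Type u} [CommRing R] {σ : Type u} [SetLike σ R] [AddSubgroupClass σ R]
variable {𝒜 : ι → σ} [GradedRing 𝒜]

/-- Torsion graded modules. -/
def Tor (a : HomogeneousIdeal 𝒜) (X : GMod.{u} 𝒜) : Prop := gam a.toIdeal X.carrier = ⊤

lemma tor_iff (a : HomogeneousIdeal 𝒜) (X : GMod.{u} 𝒜) :
    Tor a X ↔ ∀ x : X.carrier, ∃ n : ℕ, ∀ r ∈ a.toIdeal ^ n, r • x = 0 := by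
  constructor
  · intro h x
    have hx : x ∈ gam a.toIdeal X.carrier := by
      have h' : gam a.toIdeal X.carrier = ⊤ := h
      rw [h']; exact Submodule.mem_top
    exact hx
  · intro h
    exact eq_top_iff.mpr fun x _ => h x

lemma Tor.of_surjective {a : HomogeneousIdeal 𝒜} {X Y : GMod.{u} 𝒜} (h : Tor a X) (f : X ⟶ Y)
    (hf : Function.Surjective (lin f)) : Tor a Y := by
  rw [tor_iff] at h ⊢
  intro y
  obtain ⟨x, rfl⟩ := hf y
  obtain ⟨n, hn⟩ := h x
  exact ⟨n, fun r hr => by rw [← map_smul, hn r hr, map_zero]⟩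

lemma Tor.of_injective {a : HomogeneousIdeal 𝒜} {X Y : GMod.{u} 𝒜} (h : Tor a Y) (f : X ⟶ Y)
    (hf : Function.Injective (lin f)) : Tor a X := by
  rw [tor_iff] at h ⊢
  intro x
  obtain ⟨n, hn⟩ := h (lin f x)
  exact ⟨n, fun r hr => hf (by rw [map_smul, hn r hr, map_zero])⟩

lemma tor_gam (a : HomogeneousIdeal 𝒜) (X : GMod.{u} 𝒜) : Tor a ((Gam a).obj X) := by
  rw [tor_iff]
  intro x
  obtain ⟨n, hn⟩ := gamι_mem a X x
  exact ⟨n, fun r hr => gamι_injective a X (by rw [map_smul, hn r hr, map_zero])⟩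

lemma isIso_gamι {a : HomogeneousIdeal 𝒜} {X : GMod.{u} 𝒜} (h : Tor a X) : IsIso (gamι a X) := by
  apply isIso_of_bijective
  refine ⟨gamι_injective a X, fun x => ⟨gmk a X x ?_, rfl⟩⟩
  exact (tor_iff a X).mp h x

lemma epi_gam_map {a : HomogeneousIdeal 𝒜} {X Y : GMod.{u} 𝒜} (f : X ⟶ Y) (hX : Tor a X) (hY : Tor a Y)
    [Epi f] : Epi ((Gam a).map f) := by
  have := isIso_gamι hX
  have := isIso_gamι hY
  have h : (Gam a).map f = gamι a X ≫ f ≫ inv (gamι a Y) := by
    rw [← gamι_naturality_assoc, IsIso.hom_inv_id, Category.comp_id]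
  rw [h]
  infer_instance

section Noeth

variable [IsNoetherianRing R]

lemma injective_gam (a : HomogeneousIdeal 𝒜) (X : GMod.{u} 𝒜) [hX : Injective X] :
    Injective ((Gam a).obj X) := by
  rw [injective_iff] at hX ⊢
  exact Tors.isStarInj_of_ideals 𝒜 ((Gam a).obj X) (fun J hJ φ => Tors.gam_baer 𝒜 a X hX J hJ φ)

/-- Torsion modules are acyclic. -/
theorem rd_of_tor (a : HomogeneousIdeal 𝒜) (n : ℕ) : ∀ (X : GMod.{u} 𝒜), Tor a X →
    IsZero (((Gam a).rightDerived (n + 1)).obj X) := by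
  induction n with
  | zero =>
    intro X hX
    have := isIso_gamι hX
    let j : X ⟶ (Gam a).obj (Injective.under X) := inv (gamι a X) ≫ (Gam a).map (Injective.ι X)
    have hj : Mono j := by
      have h1 : j ≫ gamι a _ = Injective.ι X := by
        rw [Category.assoc, gamι_naturality, IsIso.inv_hom_id_assoc]
      exact mono_of_mono_fac h1
    have hS : (ShortComplex.mk j (cokernel.π j) (cokernel.condition j)).ShortExact :=
      { exact := ShortComplex.exact_cokernel j }
    have hC : Tor a (cokernel j) := (tor_gam a (Injective.under X)).of_surjective (cokernel.π j)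
      (surjective_of_epi _)
    have := injective_gam a (Injective.under X)
    refine zero_X₁_one (Gam a) hS ?_ ?_
    · exact epi_gam_map _ (tor_gam a _) hC
    · exact (Gam a).isZero_rightDerived_obj_injective_succ 0 _
  | succ n ih =>
    intro X hX
    have := isIso_gamι hX
    let j : X ⟶ (Gam a).obj (Injective.under X) := inv (gamι a X) ≫ (Gam a).map (Injective.ι X)
    have hj : Mono j := by
      have h1 : j ≫ gamι a _ = Injective.ι X := by
        rw [Category.assoc, gamι_naturality, IsIso.inv_hom_id_assoc]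
      exact mono_of_mono_fac h1
    have hS : (ShortComplex.mk j (cokernel.π j) (cokernel.condition j)).ShortExact :=
      { exact := ShortComplex.exact_cokernel j }
    have hC : Tor a (cokernel j) := (tor_gam a (Injective.under X)).of_surjective (cokernel.π j)
      (surjective_of_epi _)
    have := injective_gam a (Injective.under X)
    refine zero_X₁ (Gam a) hS (n + 1) (ih _ hC) ?_
    exact (Gam a).isZero_rightDerived_obj_injective_succ _ _

end Noeth

/-- In degree zero the derived functor of a torsion module is the module. -/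
noncomputable def rdZeroIso {a : HomogeneousIdeal 𝒜} {X : GMod.{u} 𝒜} (h : Tor a X) :
    ((Gam a).rightDerived 0).obj X ≅ X :=
  have := isIso_gamι h
  (Gam a).rightDerivedZeroIsoSelf.app X ≪≫ asIso (gamι a X)

/-! ### The comparison theorem -/

section Comparison

variable (K : ℕ → GMod.{u} 𝒜) (d : ∀ n, K n ⟶ K (n + 1)) (hdd : ∀ n, d n ≫ d (n + 1) = 0)

/-- Coboundaries. -/
noncomputable def rangeObj {X Y : GMod.{u} 𝒜} (f : X ⟶ Y) : GMod.{u} 𝒜 :=
  subObj Y (LinearMap.range (lin f)) (isHomogeneous_range f)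

/-- The map onto the range. -/
noncomputable def toRange {X Y : GMod.{u} 𝒜} (f : X ⟶ Y) : X ⟶ rangeObj f :=
  subLift _ (isHomogeneous_range f) f (fun x => ⟨x, rfl⟩)

lemma toRange_apply {X Y : GMod.{u} 𝒜} (f : X ⟶ Y) (x : X.carrier) :
    lin (subι Y (LinearMap.range (lin f)) (isHomogeneous_range f)) (lin (toRange f) x) = lin f x := rfl

lemma ses_ker_range {X Y : GMod.{u} 𝒜} (f : X ⟶ Y) :
    ∃ w : kerι f ≫ toRange f = 0, (ShortComplex.mk (kerι f) (toRange f) w).ShortExact := by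
  have w : kerι f ≫ toRange f = 0 := by
    refine hom_ext fun x => Subtype.ext ?_
    exact x.2
  refine ⟨w, (shortExact_iff _).mpr ⟨injective_of_mono (kerι f), fun x => ⟨fun hx => ?_, ?_⟩, ?_⟩⟩
  · have h : lin f x = 0 := congrArg (lin (subι Y (LinearMap.range (lin f)) (isHomogeneous_range f))) hx
    exact ⟨(⟨x, h⟩ : LinearMap.ker (lin f)), rfl⟩
  · rintro ⟨y, rfl⟩
    exact congrArg (fun t => lin t y) w
  · intro y
    obtain ⟨x, hx⟩ := y.2
    exact ⟨x, Subtype.ext hx⟩

variable {K d}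

/-- Coboundaries in cocycles. -/
noncomputable def rangeToKer (n : ℕ) : rangeObj (d n) ⟶ kerObj (d (n + 1)) :=
  subLift _ (isHomogeneous_ker _) (subι _ _ (isHomogeneous_range (d n))) (fun x => by
    obtain ⟨y, hy⟩ := x.2
    have h2 := congrArg (fun t => lin t y) (hdd n)
    refine LinearMap.mem_ker.mpr ?_
    refine Eq.trans ?_ h2
    exact congrArg (lin (d (n + 1))) hy.symm)

lemma rangeToKer_apply (n : ℕ) (x : (rangeObj (d n)).carrier) :
    lin (kerι (d (n + 1))) (lin (rangeToKer hdd n) x) = lin (subι _ _ (isHomogeneous_range (d n))) x := rfl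

lemma rangeToKer_injective (n : ℕ) : Function.Injective (lin (rangeToKer hdd n)) := by
  intro x y hxy
  apply injective_of_mono (subι _ _ (isHomogeneous_range (d n)))
  exact congrArg (lin (kerι (d (n + 1)))) hxy

/-- Cohomology in positive degree. -/
noncomputable abbrev cohObj (n : ℕ) : GMod.{u} 𝒜 := cokerObj (rangeToKer hdd n)

lemma ses_coh (n : ℕ) :
    (ShortComplex.mk (rangeToKer hdd n) (cokerπ (rangeToKer hdd n)) (comp_cokerπ _)).ShortExact := by
  refine (shortExact_iff _).mpr ⟨rangeToKer_injective hdd n, fun x => ⟨fun hx => ?_, ?_⟩, ?_⟩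
  · exact (Submodule.Quotient.mk_eq_zero _).mp hx
  · intro hx
    exact (Submodule.Quotient.mk_eq_zero _).mpr hx
  · exact Submodule.mkQ_surjective _

variable [IsNoetherianRing R] (a : HomogeneousIdeal 𝒜)

/-- The comparison theorem, categorical form. -/
theorem comparison₀ (h0 : Tor a (kerObj (d 0))) (hT : ∀ n, Tor a (cohObj hdd n))
    (hV : ∀ n q, IsZero (((Gam a).rightDerived q).obj (K (n + 1)))) :
    Nonempty (((Gam a).rightDerived 0).obj (K 0) ≅ kerObj (d 0)) ∧
    ∀ q, Nonempty (((Gam a).rightDerived (q + 1)).obj (K 0) ≅ cohObj hdd q) := by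
  -- vanishing of sections
  have hZ0 : ∀ n, IsZero (((Gam a).rightDerived 0).obj (kerObj (d (n + 1)))) := fun n => by
    obtain ⟨w, hS⟩ := ses_ker_range (d (n + 1))
    exact zero_of_mono (Gam a) hS (hV n 0)
  have hB0 : ∀ n, IsZero (((Gam a).rightDerived 0).obj (rangeObj (d n))) := fun n =>
    zero_of_mono (Gam a) (ses_coh hdd n) (hZ0 n)
  have hshift : ∀ n q, Nonempty (((Gam a).rightDerived q).obj (rangeObj (d (n + 1))) ≅
      ((Gam a).rightDerived (q + 1)).obj (kerObj (d (n + 1)))) := fun n q => by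
    obtain ⟨w, hS⟩ := ses_ker_range (d (n + 1))
    exact iso_of_mid_zero (Gam a) hS q (hV n q) (hV n (q + 1))
  have hZ1 : ∀ n, IsZero (((Gam a).rightDerived 1).obj (kerObj (d (n + 1)))) := fun n => by
    obtain ⟨e⟩ := hshift n 0
    exact (hB0 (n + 1)).of_iso e.symm
  have hB1 : ∀ n, Nonempty (((Gam a).rightDerived 1).obj (rangeObj (d n)) ≅ cohObj hdd n) := fun n => by
    obtain ⟨e⟩ := iso_of_mid_zero (Gam a) (ses_coh hdd n) 0 (hZ0 n) (hZ1 n)
    exact ⟨e.symm ≪≫ rdZeroIso (hT n)⟩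
  have hB : ∀ q n m, n + q = m →
      Nonempty (((Gam a).rightDerived (q + 1)).obj (rangeObj (d n)) ≅ cohObj hdd m) := by
    intro q
    induction q with
    | zero =>
      rintro n m rfl
      exact hB1 n
    | succ q ih =>
      intro n m hm
      obtain ⟨e1⟩ := iso_of_right_zero (Gam a) (ses_coh hdd n) (q + 1) (rd_of_tor a q _ (hT n))
        (rd_of_tor a (q + 1) _ (hT n))
      obtain ⟨e2⟩ := hshift n (q + 1)
      obtain ⟨e3⟩ := ih (n + 1) m (by omega)
      exact ⟨e1 ≪≫ e2.symm ≪≫ e3⟩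
  obtain ⟨w, hS⟩ := ses_ker_range (d 0)
  refine ⟨?_, fun q => ?_⟩
  · obtain ⟨e⟩ := iso_zero_of_right_zero (Gam a) hS (hB0 0)
    exact ⟨e.symm ≪≫ rdZeroIso h0⟩
  · obtain ⟨e1⟩ := iso_of_left_zero (Gam a) hS (q + 1) (rd_of_tor a q _ h0) (rd_of_tor a (q + 1) _ h0)
    obtain ⟨e2⟩ := hB q 0 q (Nat.zero_add q)
    exact ⟨e1 ≪≫ e2⟩

end Comparison

end K963.Comp
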