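import Groth.Agent.GrLC.K963.LES
import Groth.Agent.GrLC.K963.Comp

/-!
# Graded local cohomology: interface

Everything for an arbitrary grading group `ι`, an arbitrary graded commutative ring `R` (Noetherian only
where stated), graded modules with pieces in any `SetLike` type and ARBITRARY *injective resolutions.

`nonempty_res`, `Lift`, `nonempty_lift`, `Hmap`, `Hmap_toH`, `Hmap_mem`, `Hmap_id`, `Hmap_comp`, `Hmap_add`,
`Hmap_smul_id`, `Hequiv`, `Hequiv_apply`, `Hequiv_mem_iff` are in `K963.Lift`, `les` is in `K963.LES`.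
-/

set_option autoImplicit false
set_option linter.unusedVariables false
set_option linter.unusedSectionVars false
universe u

open CategoryTheory CategoryTheory.Limits GrLC
open scoped K963.Cat

namespace K963.Iface

variable {ι : Type} [AddCommGroup ι] [DecidableEq ι]
variable {R : Type u} [CommRing R] {σ : Type u} [SetLike σ R] [AddSubgroupClass σ R]
variable {𝒜 : ι → σ} [GradedRing 𝒜]
variable {M : Type u} [AddCommGroup M] [Module R M] {τ : Type u} [SetLike τ M] [AddSubgroupClass τ M]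
  {ℳ : ι → τ} [DirectSum.Decomposition ℳ] [SetLike.GradedSMul 𝒜 ℳ]
variable {N : Type u} [AddCommGroup N] [Module R N] {τN : Type u} [SetLike τN N] [AddSubgroupClass τN N]
  {𝒩 : ι → τN} [DirectSum.Decomposition 𝒩] [SetLike.GradedSMul 𝒜 𝒩]
variable {P : Type u} [AddCommGroup P] [Module R P] {τP : Type u} [SetLike τP P] [AddSubgroupClass τP P]
  {𝒬 : ι → τP} [DirectSum.Decomposition 𝒬] [SetLike.GradedSMul 𝒜 𝒬]

/-- The pieces of graded local cohomology form a grading. -/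
@[instance_reducible]
noncomputable def Hdec (E : StarInjRes 𝒜 ℳ) (a : HomogeneousIdeal 𝒜) (i : ℕ) :
    DirectSum.Decomposition (E.Hgr a i) := Cat.Hdec E a i

/-- Graded local cohomology is a graded module. -/
theorem Hgsmul (E : StarInjRes 𝒜 ℳ) (a : HomogeneousIdeal 𝒜) (i : ℕ) :
    SetLike.GradedSMul 𝒜 (E.Hgr a i) := (Cat.HObj E a i).gsmul

section
variable (E : StarInjRes 𝒜 ℳ) (F : StarInjRes 𝒜 𝒩) (G : StarInjRes 𝒜 𝒬) (a : HomogeneousIdeal 𝒜) (i : ℕ)

theorem mem_Hcomp_iff (x : E.H a i) (g : ι) : x ∈ E.Hcomp a i g ↔ x ∈ E.Hgr a i g := Iff.rfl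

/-- Local cohomology modules are torsion. -/
theorem gam_H : gam a.toIdeal (E.H a i) = ⊤ := by
  refine eq_top_iff.mpr fun x _ => ?_
  obtain ⟨z, rfl⟩ := Submodule.mkQ_surjective _ x
  obtain ⟨n, hn⟩ := z.2.1
  refine ⟨n, fun r hr => ?_⟩
  have h : r • z = 0 := Subtype.ext (hn r hr)
  rw [← map_smul, h, map_zero]

omit a i F G in
theorem d_ε (x : M) : E.d 0 (E.ε x) = 0 := by
  have h : E.ε x ∈ LinearMap.ker (E.d 0) := by rw [E.exact_zero]; exact ⟨x, rfl⟩
  exact h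

theorem ε_mem_cocyc (x : gam a.toIdeal M) : E.ε x ∈ E.cocyc a 0 :=
  ⟨Cat.mem_gam_map E.ε x.2, LinearMap.mem_ker.mpr (d_ε E x)⟩

/-- The map from the torsion submodule to `H⁰`. -/
noncomputable def H0map : gam a.toIdeal M →ₗ[R] E.H a 0 :=
  E.toH a 0 ∘ₗ LinearMap.codRestrict (E.cocyc a 0) (E.ε ∘ₗ (gam a.toIdeal M).subtype)
    (fun x => ε_mem_cocyc E a x)

theorem toH_eq_zero_iff (z : E.cocyc a i) : E.toH a i z = 0 ↔ (z : (E.X i).carrier) ∈ E.cobdy a i := by
  constructor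
  · intro h
    have h2 : z ∈ LinearMap.ker (E.toH a i) := h
    rw [StarInjRes.toH, Submodule.ker_mkQ] at h2
    exact h2
  · intro h
    exact (Submodule.Quotient.mk_eq_zero _).mpr h

theorem H0map_bijective : Function.Bijective (H0map E a) := by
  constructor
  · rw [injective_iff_map_eq_zero]
    intro x hx
    have h1 := (toH_eq_zero_iff E a 0 _).mp hx
    have h2 : E.ε x = 0 := h1
    exact Subtype.ext (E.ε_injective (h2.trans (map_zero _).symm))
  · intro y
    obtain ⟨z, rfl⟩ := Submodule.mkQ_surjective _ y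
    have hz : E.d 0 z = 0 := z.2.2
    obtain ⟨x, hx⟩ : (z : (E.X 0).carrier) ∈ LinearMap.range E.ε := by
      rw [← E.exact_zero]; exact hz
    refine ⟨⟨x, ?_⟩, ?_⟩
    · obtain ⟨n, hn⟩ := z.2.1
      refine ⟨n, fun r hr => E.ε_injective ?_⟩
      rw [map_smul, hx, hn r hr, map_zero]
    · exact congrArg (E.toH a 0) (Subtype.ext hx)

/-- `H⁰` is the torsion submodule. -/
noncomputable def H0equiv : gam a.toIdeal M ≃ₗ[R] E.H a 0 :=
  LinearEquiv.ofBijective (H0map E a) (H0map_bijective E a)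

theorem ε_proj (g : ι) (x : M) : E.ε (Dec.proj ℳ g x) = Dec.proj (E.X 0).gr g (E.ε x) :=
  Dec.map_proj ℳ (E.X 0).gr E.ε (fun g x hx => E.ε_grHom g x hx) g x

theorem H0equiv_mem_iff (x : gam a.toIdeal M) (g : ι) :
    H0equiv E a x ∈ E.Hcomp a 0 g ↔ (x : M) ∈ ℳ g := by
  constructor
  · rintro ⟨z, hz, e⟩
    have e' : E.toH a 0 z = E.toH a 0 ⟨E.ε x, ε_mem_cocyc E a x⟩ := e
    rw [← sub_eq_zero, ← map_sub] at e'
    have h1 := (toH_eq_zero_iff E a 0 _).mp e'
    have h2 : (z : (E.X 0).carrier) - E.ε x = 0 := h1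
    have h3 : E.ε x ∈ (E.X 0).gr g := by
      rw [sub_eq_zero] at h2
      rw [← h2]; exact hz
    refine Dec.mem_of_proj_eq_zero ℳ fun h hh => E.ε_injective ?_
    rw [ε_proj, Dec.proj_of_mem_ne _ h3 (Ne.symm hh), map_zero]
  · intro hx
    exact ⟨⟨E.ε x, ε_mem_cocyc E a x⟩, E.ε_grHom g x hx, rfl⟩

/-- Torsion modules are acyclic (Noetherian ring). -/
theorem H_subsingleton_of_torsion [IsNoetherianRing R] (hM : gam a.toIdeal M = ⊤) (hi : 0 < i) :
    Subsingleton (E.H a i) := by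
  obtain ⟨n, rfl⟩ : ∃ n, i = n + 1 := ⟨i - 1, by omega⟩
  have h1 := Comp.rd_of_tor a n (Cat.toGMod 𝒜 ℳ) hM
  have h2 := h1.of_iso (Cat.rdIso E a (n + 1))
  exact (Cat.isZero_iff _).mp h2

/-- Modules on which some homogeneous element of `a` acts bijectively have no local cohomology. -/
theorem H_subsingleton_of_bijective {r : R} {d : ι} (hr : r ∈ 𝒜 d) (hra : r ∈ a.toIdeal)
    (hM : Function.Bijective (fun x : M => r • x)) : Subsingleton (E.H a i) := by
  let e : M ≃ₗ[R] M := LinearEquiv.ofBijective (r • (LinearMap.id : M →ₗ[R] M)) hM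
  have he : e.toLinearMap = r • (LinearMap.id : M →ₗ[R] M) := rfl
  have hd : IsGrHomDeg ℳ ℳ e.toLinearMap d := isGrHomDeg_smul_id hr
  have hinj : ∀ x : E.H a i, r • x = 0 → x = 0 := by
    intro x hx
    have h1 : Hequiv E E a i e hd x = r • x := Hmap_smul_id E a i hr hd x
    exact (Hequiv E E a i e hd).injective ((h1.trans hx).trans (map_zero _).symm)
  have hpow : ∀ (n : ℕ) (x : E.H a i), r ^ n • x = 0 → x = 0 := by
    intro n
    induction n with
    | zero => intro x hx; rwa [pow_zero, one_smul] at hx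
    | succ n ih =>
      intro x hx
      rw [pow_succ', mul_smul] at hx
      exact ih x (hinj _ hx)
  have h0 : ∀ x : E.H a i, x = 0 := by
    intro x
    have hx : x ∈ gam a.toIdeal (E.H a i) := by rw [gam_H]; exact Submodule.mem_top
    obtain ⟨n, hn⟩ := hx
    exact hpow n x (hn _ (Ideal.pow_mem_pow hra n))
  exact ⟨fun x y => (h0 x).trans (h0 y).symm⟩

theorem Hcomp_eq_bot_of_subsingleton (h : Subsingleton (E.H a i)) (g : ι) : E.Hcomp a i g = ⊥ :=
  Subsingleton.elim _ _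

theorem subsingleton_of_Hcomp_eq_bot (h : ∀ g, E.Hcomp a i g = ⊥) : Subsingleton (E.H a i) := by
  let _ := Hdec E a i
  have h0 : ∀ x : E.H a i, x = 0 := by
    intro x
    refine Dec.eq_zero_of_proj (E.Hgr a i) fun g => ?_
    have h1 : Dec.proj (E.Hgr a i) g x ∈ E.Hcomp a i g := Dec.proj_mem (E.Hgr a i) g x
    rw [h g] at h1
    exact h1
  exact ⟨fun x y => (h0 x).trans (h0 y).symm⟩

end

section Comparison

/-- The bundled module of `X.gr` is `X`. -/
noncomputable def toGModIso (X : GMod.{u} 𝒜) : Cat.toGMod 𝒜 X.gr ≅ X :=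
  Cat.isoOfBijective (Cat.mk (X := Cat.toGMod 𝒜 X.gr) (Y := X) LinearMap.id (fun g x hx => hx))
    Function.bijective_id

omit [DecidableEq ι] in
lemma mem_gr_iff_of_iso [DecidableEq ι] {𝒜 : ι → σ} [GradedRing 𝒜] {X Y : GMod.{u} 𝒜} (e : X ≅ Y) (g : ι)
    (x : X.carrier) : Cat.lin e.hom x ∈ Y.gr g ↔ x ∈ X.gr g := by
  constructor
  · intro h
    have h1 := Cat.isGrHom e.inv g _ h
    have h2 : Cat.lin e.inv (Cat.lin e.hom x) = x := congrArg (fun t => Cat.lin t x) e.hom_inv_id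
    rwa [h2] at h1
  · exact Cat.isGrHom e.hom g x

/-- The linear equivalence underlying an isomorphism. -/
noncomputable def linEquiv {X Y : GMod.{u} 𝒜} (e : X ≅ Y) : X.carrier ≃ₗ[R] Y.carrier :=
  LinearEquiv.ofLinearMap (Cat.lin e.hom) (Cat.lin e.inv)
    (by rw [← Cat.lin_comp, e.inv_hom_id, Cat.lin_id])
    (by rw [← Cat.lin_comp, e.hom_inv_id, Cat.lin_id])

/-- Comparison theorem.  `K⁰ → K¹ → ⋯` a complex of graded modules with `K⁰ = M`, with `a`-torsion cohomology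
and such that `Kʲ` has no local cohomology for `j ≥ 1`.  Then the graded local cohomology of `M` is the
cohomology of `K`, by an `R`-linear graded isomorphism. -/
theorem comparison [IsNoetherianRing R] (a : HomogeneousIdeal 𝒜) (K : ℕ → GMod.{u} 𝒜)
    (d : ∀ n, (K n).carrier →ₗ[R] (K (n + 1)).carrier) (hd : ∀ n, IsGrHom (K n).gr (K (n + 1)).gr (d n))
    (hdd : ∀ n x, d (n + 1) (d n x) = 0)
    (htors0 : ∀ x : (K 0).carrier, d 0 x = 0 → x ∈ gam a.toIdeal (K 0).carrier)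
    (htors : ∀ n (x : (K (n + 1)).carrier), d (n + 1) x = 0 →
      ∃ m, ∀ r ∈ a.toIdeal ^ m, r • x ∈ LinearMap.range (d n))
    (hK : ∀ n (E : StarInjRes 𝒜 (K (n + 1)).gr) (q : ℕ), Subsingleton (E.H a q))
    (E : StarInjRes 𝒜 (K 0).gr) :
    (∃ φ : LinearMap.ker (d 0) ≃ₗ[R] E.H a 0,
      ∀ (x : LinearMap.ker (d 0)) g, φ x ∈ E.Hcomp a 0 g ↔ (x : (K 0).carrier) ∈ (K 0).gr g) ∧
    ∀ q, ∃ φ : LinearMap.ker (d (q + 1)) →ₗ[R] E.H a (q + 1), Function.Surjective φ ∧
      LinearMap.ker φ = (LinearMap.range (d q)).comap (LinearMap.ker (d (q + 1))).subtype ∧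
      (∀ (x : LinearMap.ker (d (q + 1))) g, (x : (K (q + 1)).carrier) ∈ (K (q + 1)).gr g →
        φ x ∈ E.Hcomp a (q + 1) g) ∧
      (∀ g, ∀ y ∈ E.Hcomp a (q + 1) g, ∃ x : LinearMap.ker (d (q + 1)),
        (x : (K (q + 1)).carrier) ∈ (K (q + 1)).gr g ∧ φ x = y) := by
  let D : ∀ n, K n ⟶ K (n + 1) := fun n => Cat.mk (d n) (hd n)
  have hDD : ∀ n, D n ≫ D (n + 1) = 0 := fun n => Cat.hom_ext fun x => hdd n x
  have h0 : Comp.Tor a (Cat.kerObj (D 0)) := by
    rw [Comp.tor_iff]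
    intro x
    obtain ⟨n, hn⟩ := htors0 (Cat.lin (Cat.kerι (D 0)) x) x.2
    refine ⟨n, fun r hr => ?_⟩
    apply Cat.injective_of_mono (Cat.kerι (D 0))
    rw [map_smul, map_zero]
    exact hn r hr
  have hT : ∀ n, Comp.Tor a (Comp.cohObj hDD n) := by
    intro n
    rw [Comp.tor_iff]
    intro y
    obtain ⟨x, rfl⟩ := Cat.surjective_of_epi (Cat.cokerπ (Comp.rangeToKer hDD n)) y
    obtain ⟨m, hm⟩ := htors n (Cat.lin (Cat.kerι (D (n + 1))) x) x.2
    refine ⟨m, fun r hr => ?_⟩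
    obtain ⟨z, hz⟩ := hm r hr
    rw [← map_smul]
    refine (Submodule.Quotient.mk_eq_zero _).mpr ?_
    refine ⟨(⟨d n z, ⟨z, rfl⟩⟩ : LinearMap.range (d n)), ?_⟩
    apply Cat.injective_of_mono (Cat.kerι (D (n + 1)))
    rw [map_smul]
    exact hz
  have hV : ∀ n q, IsZero (((Cat.Gam a).rightDerived q).obj (K (n + 1))) := by
    intro n q
    obtain ⟨E'⟩ := nonempty_res 𝒜 (K (n + 1)).gr
    have h1 : IsZero (Cat.HObj E' a q) := (Cat.isZero_iff _).mpr (hK n E' q)
    exact h1.of_iso (((Cat.Gam a).rightDerived q).mapIso (toGModIso (K (n + 1))).symm ≪≫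
      (Cat.rdIso E' a q).symm)
  obtain ⟨⟨e0⟩, he⟩ := Comp.comparison₀ hDD a h0 hT hV
  refine ⟨?_, fun q => ?_⟩
  · obtain ⟨e⟩ : Nonempty (Cat.kerObj (D 0) ≅ Cat.HObj E a 0) :=
      ⟨e0.symm ≪≫ ((Cat.Gam a).rightDerived 0).mapIso (toGModIso (K 0)).symm ≪≫ (Cat.rdIso E a 0).symm⟩
    exact ⟨linEquiv e, fun x g => mem_gr_iff_of_iso e g x⟩
  · obtain ⟨e1⟩ := he q
    obtain ⟨e⟩ : Nonempty (Comp.cohObj hDD q ≅ Cat.HObj E a (q + 1)) :=
      ⟨e1.symm ≪≫ ((Cat.Gam a).rightDerived (q + 1)).mapIso (toGModIso (K 0)).symm ≪≫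
        (Cat.rdIso E a (q + 1)).symm⟩
    refine ⟨Cat.lin (Cat.cokerπ (Comp.rangeToKer hDD q) ≫ e.hom), ?_, ?_, ?_, ?_⟩
    · rw [Cat.lin_comp]
      exact (Cat.bijective_of_isIso e.hom).2.comp (Cat.surjective_of_epi _)
    · ext x
      rw [LinearMap.mem_ker, Submodule.mem_comap]
      have h1 : Cat.lin (Cat.cokerπ (Comp.rangeToKer hDD q) ≫ e.hom) x = 0 ↔
          Cat.lin (Cat.cokerπ (Comp.rangeToKer hDD q)) x = 0 := by
        constructor
        · intro h
          exact (Cat.bijective_of_isIso e.hom).1 (h.trans (map_zero (Cat.lin e.hom)).symm)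
        · intro h
          exact (congrArg (Cat.lin e.hom) h).trans (map_zero (Cat.lin e.hom))
      refine h1.trans ⟨fun h => ?_, ?_⟩
      · obtain ⟨⟨y, z, hz⟩, hy⟩ := (Submodule.Quotient.mk_eq_zero _).mp h
        refine ⟨z, ?_⟩
        have h2 := congrArg (Cat.lin (Cat.kerι (D (q + 1)))) hy
        exact hz.trans h2
      · rintro ⟨z, hz⟩
        refine (Submodule.Quotient.mk_eq_zero _).mpr
          ⟨(⟨d q z, ⟨z, rfl⟩⟩ : LinearMap.range (d q)), ?_⟩
        apply Cat.injective_of_mono (Cat.kerι (D (q + 1)))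
        exact hz
    · intro x g hx
      exact Cat.isGrHom (Cat.cokerπ (Comp.rangeToKer hDD q) ≫ e.hom) g x hx
    · intro g y hy
      have hy' : Cat.lin e.inv y ∈ (Comp.cohObj hDD q).gr g := Cat.isGrHom e.inv g y hy
      obtain ⟨x, hx, hxy⟩ := hy'
      refine ⟨x, hx, ?_⟩
      have h2 : Cat.lin e.hom (Cat.lin e.inv y) = y := congrArg (fun t => Cat.lin t y) e.inv_hom_id
      refine Eq.trans ?_ h2
      exact congrArg (Cat.lin e.hom) hxy

end Comparison

end K963.Iface
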