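import Groth.Agent.GrLC.K963.Lift
import Groth.Agent.Cohder.RDLES

/-!
# The long exact sequence of graded local cohomology
-/

set_option autoImplicit false
set_option linter.unusedVariables false
set_option linter.unusedSectionVars false
universe u

open CategoryTheory CategoryTheory.Limits GrLC K963.Cat

namespace K963.Iface

variable {ι : Type} [AddCommGroup ι] [DecidableEq ι]
variable {R : Type u} [CommRing R] {σ : Type u} [SetLike σ R] [AddSubgroupClass σ R]
variable {𝒜 : ι → σ} [GradedRing 𝒜]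
variable {M : Type u} [AddCommGroup M] [Module R M] {τ : Type u} [SetLike τ M] [AddSubgroupClass τ M]
  {ℳ : ι → τ} [DirectSum.Decomposition ℳ] [SetLike.GradedSMul 𝒜 ℳ]
variable {N : Type u} [AddCommGroup N] [Module R N] {τN : Type u} [SetLike τN N] [AddSubgroupClass τN N]
  {𝒩 : ι → τN} [DirectSum.Decomposition 𝒩] [SetLike.GradedSMul 𝒜 𝒩]
variable {P : Type u} [AddCommGroup P] [Module R P] {τP : Type u} [SetLike τP P] [AddSubgroupClass τP P]
  {𝒬 : ι → τP} [DirectSum.Decomposition 𝒬] [SetLike.GradedSMul 𝒜 𝒬]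

lemma exact_transport {A B C A' B' C' : GMod.{u} 𝒜} (i : A' ≅ A) (j : B' ≅ B) (k : C' ≅ C)
    {f : A ⟶ B} {g : B ⟶ C} (w : f ≫ g = 0) (h : (ShortComplex.mk f g w).Exact)
    {f' : A' ⟶ B'} {g' : B' ⟶ C'} (hf : f' = i.hom ≫ f ≫ j.inv) (hg : g' = j.hom ≫ g ≫ k.inv) :
    Function.Exact (lin f') (lin g') := by
  have w' : f' ≫ g' = 0 := by
    rw [hf, hg, Category.assoc, Category.assoc, Iso.inv_hom_id_assoc, reassoc_of% w, zero_comp, comp_zero]
  refine (exact_iff' (ShortComplex.mk f' g' w')).mp ?_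
  refine ShortComplex.exact_of_iso (ShortComplex.isoMk i j k ?_ ?_).symm h
  · change i.hom ≫ f = f' ≫ j.hom
    rw [hf, Category.assoc, Category.assoc, Iso.inv_hom_id, Category.comp_id]
  · change j.hom ≫ g = g' ≫ k.hom
    rw [hg, Category.assoc, Category.assoc, Iso.inv_hom_id, Category.comp_id]

lemma rightDerived_map_zero {C D : Type*} [Category* C] [Category* D] [Abelian C] [Abelian D]
    [HasInjectiveResolutions C] (F : C ⥤ D) [F.Additive] (n : ℕ) (X Y : C) :
    (F.rightDerived n).map (0 : X ⟶ Y) = 0 := by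
  rw [F.rightDerived_map_eq n (0 : X ⟶ Y) (P := injectiveResolution X) (Q := injectiveResolution Y) 0
    (by simp), Functor.map_zero, zero_comp, comp_zero]

/-- The long exact sequence, degree zero maps. -/
lemma les₀ (E : StarInjRes 𝒜 ℳ) (F : StarInjRes 𝒜 𝒩) (G : StarInjRes 𝒜 𝒬) (a : HomogeneousIdeal 𝒜)
    (f : toGMod 𝒜 ℳ ⟶ toGMod 𝒜 𝒩) (g : toGMod 𝒜 𝒩 ⟶ toGMod 𝒜 𝒬) (w : f ≫ g = 0)
    (hS : (ShortComplex.mk f g w).ShortExact) :
    ∃ δ : ∀ i, HObj G a i ⟶ HObj E a (i + 1),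
      Function.Injective (lin (HmapG E F a 0 f)) ∧
      (∀ i, Function.Exact (lin (HmapG E F a i f)) (lin (HmapG F G a i g))) ∧
      (∀ i, Function.Exact (lin (HmapG F G a i g)) (lin (δ i))) ∧
      (∀ i, Function.Exact (lin (δ i)) (lin (HmapG E F a (i + 1) f))) := by
  obtain ⟨h1, h2, δ, hδ⟩ := Groth.Agent.Cohder.RDLES.exists_les (Gam a) hS
  refine ⟨fun i => (rdIso G a i).hom ≫ δ i ≫ (rdIso E a (i + 1)).inv, ?_, fun i => ?_, fun i => ?_,
    fun i => ?_⟩
  · have : Mono (HmapG E F a 0 f) := by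
      have h1' : Mono (((Gam a).rightDerived 0).map f) := h1
      rw [HmapG]; infer_instance
    exact injective_of_mono _
  · have hw : ((Gam a).rightDerived i).map f ≫ ((Gam a).rightDerived i).map g = 0 := by
      rw [← Functor.map_comp, w, rightDerived_map_zero]
    exact exact_transport (rdIso E a i) (rdIso F a i) (rdIso G a i) hw (h2 i hw) rfl rfl
  · obtain ⟨w1, w2, e1, e2⟩ := hδ i
    exact exact_transport (rdIso F a i) (rdIso G a i) (rdIso E a (i + 1)) w1 e1 rfl rfl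
  · obtain ⟨w1, w2, e1, e2⟩ := hδ i
    exact exact_transport (rdIso G a i) (rdIso E a (i + 1)) (rdIso F a (i + 1)) w2 e2 rfl rfl

section
variable (E : StarInjRes 𝒜 ℳ) (F : StarInjRes 𝒜 𝒩) (G : StarInjRes 𝒜 𝒬) (a : HomogeneousIdeal 𝒜)

/-- A homogeneous map between shifts. -/
noncomputable def betweenShifts (g : N →ₗ[R] P) {dg : ι} (hg : IsGrHomDeg 𝒩 𝒬 g dg) (df : ι) :
    toGMod 𝒜 (shiftObj df (toGMod 𝒜 𝒩)).gr ⟶ toGMod 𝒜 (shiftObj (df + dg) (toGMod 𝒜 𝒬)).gr :=
  mk (X := toGMod 𝒜 (shiftObj df (toGMod 𝒜 𝒩)).gr) (Y := toGMod 𝒜 (shiftObj (df + dg) (toGMod 𝒜 𝒬)).gr) g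
    (fun k x hx => by
      change g x ∈ 𝒬 (k + (df + dg))
      rw [← add_assoc]
      exact hg (k + df) x hx)

lemma Hmap_unshift (g : N →ₗ[R] P) {dg : ι} (hg : IsGrHomDeg 𝒩 𝒬 g dg) (df : ι) (i : ℕ)
    (x : (shiftRes F df).H a i) :
    Hmap F G a i g hg (unshift F df a i x) = unshift G (df + dg) a i
      (lin (HmapG (shiftRes F df) (shiftRes G (df + dg)) a i (betweenShifts g hg df)) x) := by
  obtain ⟨z', rfl⟩ := Submodule.mkQ_surjective _ x
  obtain ⟨L⟩ := nonempty_lift F G g hg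
  let z : F.cocyc a i := z'
  have h1 := Hmap_toH F G a i L hg z
  have h2 := HmapG_toH a i (betweenShifts g hg df)
    (fun n => (mk (X := (shiftRes F df).X n) (Y := (shiftRes G (df + dg)).X n) (L.φ n) (fun k x hx => by
      change L.φ n x ∈ (G.X n).gr (k + (df + dg))
      rw [← add_assoc]
      exact L.gr n (k + df) x hx)))
    (fun n => hom_ext fun x => (L.comm_d n x).symm) (hom_ext fun x => L.comm_ε x) z'
    ⟨L.φ i z, L.mem_cocyc F G a i z⟩ rfl
  exact h1.trans (congrArg (unshift G (df + dg) a i) h2).symm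

/-- The long exact sequence of graded local cohomology. -/
theorem les {f : M →ₗ[R] N} {g : N →ₗ[R] P} {df dg : ι} (hf : IsGrHomDeg ℳ 𝒩 f df)
    (hg : IsGrHomDeg 𝒩 𝒬 g dg) (hinj : Function.Injective f) (hex : Function.Exact f g)
    (hsurj : Function.Surjective g) :
    ∃ δ : ∀ i, G.H a i →ₗ[R] E.H a (i + 1),
      (∀ i h x, x ∈ G.Hcomp a i h → δ i x ∈ E.Hcomp a (i + 1) (h - dg - df)) ∧
      Function.Injective (Hmap E F a 0 f hf) ∧
      (∀ i, Function.Exact (Hmap E F a i f hf) (Hmap F G a i g hg)) ∧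
      (∀ i, Function.Exact (Hmap F G a i g hg) (δ i)) ∧
      (∀ i, Function.Exact (δ i) (Hmap E F a (i + 1) f hf)) := by
  have w : toShift (𝒜 := 𝒜) f hf ≫ betweenShifts (𝒜 := 𝒜) g hg df = 0 := hom_ext fun x => (hex (f x)).mpr ⟨x, rfl⟩
  have hS : (ShortComplex.mk (toShift (𝒜 := 𝒜) f hf) (betweenShifts (𝒜 := 𝒜) g hg df) w).ShortExact :=
    (shortExact_iff _).mpr ⟨hinj, hex, hsurj⟩
  obtain ⟨D, h1, h2, h3, h4⟩ := les₀ E (shiftRes F df) (shiftRes G (df + dg)) a _ _ w hS
  let uG : ∀ i, (shiftRes G (df + dg)).H a i ≃ₗ[R] G.H a i := fun i =>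
    LinearEquiv.ofBijective _ (unshift_bijective G (df + dg) a i)
  have hu : ∀ i x, unshift G (df + dg) a i ((uG i).symm x) = x := fun i x => (uG i).apply_symm_apply x
  refine ⟨fun i => lin (D i) ∘ₗ (uG i).symm.toLinearMap, fun i h x hx => ?_, ?_, fun i => ?_, fun i => ?_,
    fun i => ?_⟩
  · have hx' : (uG i).symm x ∈ (shiftRes G (df + dg)).Hcomp a i (h - (df + dg)) := by
      rw [← unshift_mem_iff, hu, sub_add_cancel]; exact hx
    have := isGrHom (D i) _ _ hx'
    rw [sub_sub, add_comm dg df]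
    exact this
  · exact (unshift_bijective F df a 0).1.comp h1
  · intro y
    obtain ⟨y, rfl⟩ := (unshift_bijective F df a i).2 y
    rw [Hmap_unshift]
    constructor
    · intro h
      have h' := (unshift_bijective G (df + dg) a i).1 (h.trans (map_zero _).symm)
      obtain ⟨x, hx⟩ := (h2 i y).mp h'
      exact ⟨x, congrArg (unshift F df a i) hx⟩
    · rintro ⟨x, hx⟩
      have hx' := (unshift_bijective F df a i).1 hx
      have := (h2 i y).mpr ⟨x, hx'⟩
      exact (congrArg (unshift G (df + dg) a i) this).trans (map_zero _)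
  · intro z
    constructor
    · intro h
      obtain ⟨y, hy⟩ := (h3 i ((uG i).symm z)).mp h
      refine ⟨unshift F df a i y, (Hmap_unshift F G a g hg df i y).trans ?_⟩
      exact (congrArg (unshift G (df + dg) a i) hy).trans (hu i z)
    · rintro ⟨y, rfl⟩
      obtain ⟨y, rfl⟩ := (unshift_bijective F df a i).2 y
      rw [Hmap_unshift]
      refine (h3 i _).mpr ⟨y, ?_⟩
      exact ((uG i).symm_apply_apply _).symm
  · intro x
    constructor
    · intro h
      have h' := (unshift_bijective F df a (i + 1)).1 (h.trans (map_zero _).symm)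
      obtain ⟨z, hz⟩ := (h4 i x).mp h'
      exact ⟨unshift G (df + dg) a i z, (congrArg (lin (D i)) ((uG i).symm_apply_apply z)).trans hz⟩
    · rintro ⟨z, rfl⟩
      have := (h4 i (lin (D i) ((uG i).symm z))).mpr ⟨_, rfl⟩
      exact (congrArg (unshift F df a (i + 1)) this).trans (map_zero _)

end

end K963.Iface
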