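import Groth.Agent.GrLC.K963.Dec
import Mathlib.CategoryTheory.Abelian.Basic
import Mathlib.CategoryTheory.Preadditive.Biproducts
import Mathlib.LinearAlgebra.Isomorphisms

/-!
# The abelian category of graded modules

`GrLC.GMod 𝒜` with morphisms the homogeneous (degree zero) linear maps is an abelian category.
All instances are scoped in the namespace `K963.Cat`.
-/

set_option autoImplicit false
universe u

open CategoryTheory CategoryTheory.Limits GrLC

namespace K963.Cat

variable {ι : Type} [AddCommGroup ι] [DecidableEq ι]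
variable {R : Type u} [CommRing R] {σ : Type u} [SetLike σ R] [AddSubgroupClass σ R]
variable {𝒜 : ι → σ} [GradedRing 𝒜]

/-- Morphisms of graded modules: linear maps homogeneous of degree zero. -/
@[ext]
structure GHom (X Y : GMod.{u} 𝒜) : Type u where
  /-- the underlying linear map -/
  lin : X.carrier →ₗ[R] Y.carrier
  gr : IsGrHom X.gr Y.gr lin

scoped instance instCategory : Category.{u} (GMod.{u} 𝒜) where
  Hom X Y := GHom X Y
  id X := ⟨LinearMap.id, fun _ _ h => h⟩
  comp f g := ⟨g.lin ∘ₗ f.lin, fun i x hx => g.gr i _ (f.gr i x hx)⟩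

/-- The underlying linear map of a morphism. -/
abbrev lin {X Y : GMod.{u} 𝒜} (f : X ⟶ Y) : X.carrier →ₗ[R] Y.carrier := GHom.lin f

/-- Constructor for morphisms. -/
abbrev mk {X Y : GMod.{u} 𝒜} (f : X.carrier →ₗ[R] Y.carrier) (hf : IsGrHom X.gr Y.gr f) : X ⟶ Y :=
  GHom.mk f hf

lemma isGrHom {X Y : GMod.{u} 𝒜} (f : X ⟶ Y) : IsGrHom X.gr Y.gr (lin f) := GHom.gr f

lemma hom_ext {X Y : GMod.{u} 𝒜} {f g : X ⟶ Y} (h : ∀ x, lin f x = lin g x) : f = g :=
  GHom.ext (LinearMap.ext h)

lemma hom_ext_lin {X Y : GMod.{u} 𝒜} {f g : X ⟶ Y} (h : lin f = lin g) : f = g :=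
  GHom.ext h

@[simp] lemma lin_id (X : GMod.{u} 𝒜) : lin (𝟙 X) = LinearMap.id := rfl
@[simp] lemma lin_comp {X Y Z : GMod.{u} 𝒜} (f : X ⟶ Y) (g : Y ⟶ Z) :
    lin (f ≫ g) = lin g ∘ₗ lin f := rfl
@[simp] lemma lin_mk {X Y : GMod.{u} 𝒜} (f : X.carrier →ₗ[R] Y.carrier) (hf) : lin (mk f hf) = f := rfl
lemma comp_apply {X Y Z : GMod.{u} 𝒜} (f : X ⟶ Y) (g : Y ⟶ Z) (x : X.carrier) :
    lin (f ≫ g) x = lin g (lin f x) := rfl

/-! ### Preadditive structure -/

section Preadd
variable {X Y : GMod.{u} 𝒜}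

instance : Zero (GHom X Y) := ⟨⟨0, fun _ _ _ => zero_mem _⟩⟩
instance : Add (GHom X Y) := ⟨fun f g => ⟨f.lin + g.lin, fun i x hx => add_mem (f.gr i x hx) (g.gr i x hx)⟩⟩
instance : Neg (GHom X Y) := ⟨fun f => ⟨-f.lin, fun i x hx => neg_mem (f.gr i x hx)⟩⟩
instance : Sub (GHom X Y) := ⟨fun f g => ⟨f.lin - g.lin, fun i x hx => sub_mem (f.gr i x hx) (g.gr i x hx)⟩⟩
instance : SMul ℕ (GHom X Y) := ⟨fun n f => ⟨n • f.lin, fun i x hx => by
  rw [LinearMap.smul_apply]; exact nsmul_mem (f.gr i x hx) n⟩⟩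
instance : SMul ℤ (GHom X Y) := ⟨fun n f => ⟨n • f.lin, fun i x hx => by
  rw [LinearMap.smul_apply]; exact zsmul_mem (f.gr i x hx) n⟩⟩

lemma lin_injective : Function.Injective (GHom.lin : GHom X Y → _) := fun _ _ h => GHom.ext h

instance : AddCommGroup (GHom X Y) :=
  lin_injective.addCommGroup _ rfl (fun _ _ => rfl) (fun _ => rfl) (fun _ _ => rfl)
    (fun _ _ => rfl) (fun _ _ => rfl)

scoped instance : AddCommGroup (X ⟶ Y) := inferInstanceAs (AddCommGroup (GHom X Y))

end Preadd

scoped instance instPreadditive : Preadditive (GMod.{u} 𝒜) where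
  add_comp _ _ _ f f' g := hom_ext fun x => map_add (lin g) _ _
  comp_add _ _ _ f g g' := hom_ext fun x => rfl

@[simp] lemma lin_zero {X Y : GMod.{u} 𝒜} : lin (0 : X ⟶ Y) = 0 := rfl
@[simp] lemma lin_add {X Y : GMod.{u} 𝒜} (f g : X ⟶ Y) : lin (f + g) = lin f + lin g := rfl
@[simp] lemma lin_neg {X Y : GMod.{u} 𝒜} (f : X ⟶ Y) : lin (-f) = - lin f := rfl
@[simp] lemma lin_sub {X Y : GMod.{u} 𝒜} (f g : X ⟶ Y) : lin (f - g) = lin f - lin g := rfl

/-! ### Homogeneous submodules, quotients, products -/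

/-- A homogeneous submodule as a graded module. -/
noncomputable def subObj (X : GMod.{u} 𝒜) (P : Submodule R X.carrier) (hP : P.IsHomogeneous X.gr) :
    GMod.{u} 𝒜 where
  carrier := P
  gr g := (X.gr g).comap P.subtype.toAddMonoidHom
  dec := Dec.ofProj _ (fun g x => ⟨Dec.proj X.gr g x, hP g x.2⟩)
    (fun g x => Dec.proj_mem X.gr g _)
    (fun g x y => Subtype.ext (map_add (Dec.proj X.gr g) _ _))
    (fun g h x hx hgh => Subtype.ext (Dec.proj_of_mem_ne X.gr hx hgh))
    (fun x => by
      obtain ⟨s, hs, hx⟩ := Dec.sum_proj X.gr (x : X.carrier)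
      refine ⟨s, fun g hg => Subtype.ext (hs g hg), Subtype.ext ?_⟩
      rw [AddSubmonoidClass.coe_finsetSum]
      exact hx)
  gsmul := ⟨fun {g h} r x hr hx => by
    have := SetLike.GradedSMul.smul_mem (A := 𝒜) (B := X.gr) hr
      (show ((x : X.carrier)) ∈ X.gr h from hx)
    exact this⟩

/-- The inclusion of a homogeneous submodule. -/
noncomputable def subι (X : GMod.{u} 𝒜) (P : Submodule R X.carrier) (hP : P.IsHomogeneous X.gr) :
    subObj X P hP ⟶ X := mk P.subtype (fun _ _ h => h)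

/-- Lifting a morphism to a homogeneous submodule. -/
noncomputable def subLift {X Z : GMod.{u} 𝒜} (P : Submodule R X.carrier) (hP : P.IsHomogeneous X.gr)
    (f : Z ⟶ X) (hf : ∀ z, lin f z ∈ P) : Z ⟶ subObj X P hP :=
  mk ((lin f).codRestrict P hf) (fun g z hz => isGrHom f g z hz)

@[reassoc (attr := simp)]
lemma subLift_ι {X Z : GMod.{u} 𝒜} (P : Submodule R X.carrier) (hP : P.IsHomogeneous X.gr)
    (f : Z ⟶ X) (hf : ∀ z, lin f z ∈ P) : subLift P hP f hf ≫ subι X P hP = f := rfl

instance (X : GMod.{u} 𝒜) (P : Submodule R X.carrier) (hP : P.IsHomogeneous X.gr) :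
    Mono (subι X P hP) where
  right_cancellation f g h := hom_ext fun x => Subtype.ext (by
    have := congrArg (fun k => lin k x) h
    exact this)

/-- The quotient by a homogeneous submodule as a graded module. -/
noncomputable def quotObj (X : GMod.{u} 𝒜) (P : Submodule R X.carrier) (hP : P.IsHomogeneous X.gr) :
    GMod.{u} 𝒜 where
  carrier := X.carrier ⧸ P
  gr g := (X.gr g).map P.mkQ.toAddMonoidHom
  dec := Dec.ofProj _ (fun g => QuotientAddGroup.map P.toAddSubgroup P.toAddSubgroup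
      (Dec.proj X.gr g) (fun x hx => hP g hx))
    (fun g x => by
      obtain ⟨x, rfl⟩ := P.mkQ_surjective x
      exact ⟨Dec.proj X.gr g x, Dec.proj_mem X.gr g _, rfl⟩)
    (fun g x y => map_add _ _ _)
    (fun g h x hx hgh => by
      obtain ⟨x, hx, rfl⟩ := hx
      change P.mkQ (Dec.proj X.gr h x) = 0
      rw [Dec.proj_of_mem_ne X.gr hx hgh, map_zero])
    (fun x => by
      obtain ⟨x, rfl⟩ := P.mkQ_surjective x
      obtain ⟨s, hs, hx⟩ := Dec.sum_proj X.gr (x : X.carrier)
      refine ⟨s, fun g hg => ?_, ?_⟩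
      · change P.mkQ (Dec.proj X.gr g x) = 0
        rw [hs g hg, map_zero]
      · change P.mkQ x = ∑ g ∈ s, P.mkQ (Dec.proj X.gr g x)
        rw [← map_sum, ← hx])
  gsmul := ⟨fun {g h} r x hr hx => by
    obtain ⟨x, hx, rfl⟩ := hx
    exact ⟨r • x, SetLike.GradedSMul.smul_mem (A := 𝒜) (B := X.gr) hr hx, rfl⟩⟩

/-- The projection to a quotient. -/
noncomputable def quotπ (X : GMod.{u} 𝒜) (P : Submodule R X.carrier) (hP : P.IsHomogeneous X.gr) :
    X ⟶ quotObj X P hP := mk P.mkQ (fun _ x h => ⟨x, h, rfl⟩)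

/-- Descending a morphism to a quotient. -/
noncomputable def quotDesc {X Z : GMod.{u} 𝒜} (P : Submodule R X.carrier) (hP : P.IsHomogeneous X.gr)
    (f : X ⟶ Z) (hf : ∀ x ∈ P, lin f x = 0) : quotObj X P hP ⟶ Z :=
  mk (P.liftQ (lin f) hf) (fun g z hz => by
    obtain ⟨x, hx, rfl⟩ := hz
    exact isGrHom f g x hx)

@[reassoc (attr := simp)]
lemma quotπ_desc {X Z : GMod.{u} 𝒜} (P : Submodule R X.carrier) (hP : P.IsHomogeneous X.gr)
    (f : X ⟶ Z) (hf : ∀ x ∈ P, lin f x = 0) : quotπ X P hP ≫ quotDesc P hP f hf = f := rfl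

instance (X : GMod.{u} 𝒜) (P : Submodule R X.carrier) (hP : P.IsHomogeneous X.gr) :
    Epi (quotπ X P hP) where
  left_cancellation f g h := hom_ext fun x => by
    obtain ⟨x, rfl⟩ := P.mkQ_surjective x
    have := congrArg (fun k => lin k x) h
    exact this

/-- The product of two graded modules. -/
noncomputable def prodObj (X Y : GMod.{u} 𝒜) : GMod.{u} 𝒜 where
  carrier := X.carrier × Y.carrier
  gr g := (X.gr g).prod (Y.gr g)
  dec := Dec.ofProj _ (fun g x => (Dec.proj X.gr g x.1, Dec.proj Y.gr g x.2))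
    (fun g x => ⟨Dec.proj_mem X.gr g _, Dec.proj_mem Y.gr g _⟩)
    (fun g x y => Prod.ext (map_add _ _ _) (map_add _ _ _))
    (fun g h x hx hgh => Prod.ext (Dec.proj_of_mem_ne X.gr hx.1 hgh) (Dec.proj_of_mem_ne Y.gr hx.2 hgh))
    (fun x => by
      obtain ⟨s, hs, hx⟩ := Dec.sum_proj X.gr x.1
      obtain ⟨t, ht, hy⟩ := Dec.sum_proj Y.gr x.2
      refine ⟨s ∪ t, fun g hg => ?_, ?_⟩
      · rw [Finset.mem_union, not_or] at hg
        exact Prod.ext (hs g hg.1) (ht g hg.2)
      · refine Prod.ext ?_ ?_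
        · rw [Prod.fst_sum]
          refine hx.trans (Finset.sum_subset Finset.subset_union_left fun g _ hg => hs g hg)
        · rw [Prod.snd_sum]
          refine hy.trans (Finset.sum_subset Finset.subset_union_right fun g _ hg => ht g hg))
  gsmul := ⟨fun {g h} r x hr hx =>
    ⟨SetLike.GradedSMul.smul_mem (A := 𝒜) (B := X.gr) hr hx.1,
      SetLike.GradedSMul.smul_mem (A := 𝒜) (B := Y.gr) hr hx.2⟩⟩

variable (𝒜) in
/-- The zero graded module. -/
noncomputable def zeroObj : GMod.{u} 𝒜 where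
  carrier := PUnit.{u + 1}
  gr _ := ⊤
  dec := Dec.ofProj _ (fun _ x => x) (fun _ _ => trivial) (fun _ _ _ => rfl) (fun _ _ _ _ _ => rfl)
    (fun _ => ⟨∅, fun _ _ => rfl, rfl⟩)
  gsmul := ⟨by intros; exact AddSubgroup.mem_top _⟩

lemma isZero_of_subsingleton (X : GMod.{u} 𝒜) [Subsingleton X.carrier] : IsZero X where
  unique_to Y := ⟨⟨⟨0⟩, fun f => hom_ext fun x => by
    rw [Subsingleton.elim x 0, map_zero, map_zero]⟩⟩
  unique_from Y := ⟨⟨⟨0⟩, fun f => hom_ext fun x => Subsingleton.elim _ _⟩⟩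

scoped instance instHasZeroObject : HasZeroObject (GMod.{u} 𝒜) where
  zero := ⟨zeroObj 𝒜, by
    have : Subsingleton (zeroObj 𝒜).carrier := inferInstanceAs (Subsingleton PUnit)
    exact isZero_of_subsingleton _⟩

/-- The binary biproduct data. -/
noncomputable def biprodData (X Y : GMod.{u} 𝒜) : BinaryBicone X Y where
  pt := prodObj X Y
  fst := mk (LinearMap.fst R X.carrier Y.carrier) (fun _ _ h => h.1)
  snd := mk (LinearMap.snd R X.carrier Y.carrier) (fun _ _ h => h.2)
  inl := mk (LinearMap.inl R X.carrier Y.carrier) (fun _ _ h => ⟨h, zero_mem _⟩)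
  inr := mk (LinearMap.inr R X.carrier Y.carrier) (fun _ _ h => ⟨zero_mem _, h⟩)
  inl_fst := rfl
  inl_snd := rfl
  inr_fst := rfl
  inr_snd := rfl

scoped instance instHasBinaryBiproducts : HasBinaryBiproducts (GMod.{u} 𝒜) where
  has_binary_biproduct X Y := hasBinaryBiproduct_of_total (biprodData X Y) (hom_ext fun x => by
    refine Prod.ext ?_ ?_
    · change x.1 + 0 = x.1
      exact add_zero _
    · change 0 + x.2 = x.2
      exact zero_add _)

scoped instance instHasFiniteProducts : HasFiniteProducts (GMod.{u} 𝒜) :=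
  hasFiniteProducts_of_has_binary_and_terminal

scoped instance instHasFiniteBiproducts : HasFiniteBiproducts (GMod.{u} 𝒜) :=
  HasFiniteBiproducts.of_hasFiniteProducts

/-! ### Kernels and cokernels -/

lemma map_proj {X Y : GMod.{u} 𝒜} (f : X ⟶ Y) (g : ι) (x : X.carrier) :
    lin f (Dec.proj X.gr g x) = Dec.proj Y.gr g (lin f x) :=
  Dec.map_proj X.gr Y.gr (lin f) (isGrHom f) g x

lemma isHomogeneous_ker {X Y : GMod.{u} 𝒜} (f : X ⟶ Y) :
    (LinearMap.ker (lin f)).IsHomogeneous X.gr := by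
  intro g x hx
  change lin f (Dec.proj X.gr g x) = 0
  rw [map_proj, LinearMap.mem_ker.mp hx, map_zero]

lemma isHomogeneous_range {X Y : GMod.{u} 𝒜} (f : X ⟶ Y) :
    (LinearMap.range (lin f)).IsHomogeneous Y.gr := by
  rintro g _ ⟨x, rfl⟩
  exact ⟨Dec.proj X.gr g x, map_proj f g x⟩

/-- The kernel. -/
noncomputable abbrev kerObj {X Y : GMod.{u} 𝒜} (f : X ⟶ Y) : GMod.{u} 𝒜 :=
  subObj X (LinearMap.ker (lin f)) (isHomogeneous_ker f)

/-- The inclusion of the kernel. -/
noncomputable abbrev kerι {X Y : GMod.{u} 𝒜} (f : X ⟶ Y) : kerObj f ⟶ X :=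
  subι X (LinearMap.ker (lin f)) (isHomogeneous_ker f)

lemma kerι_comp {X Y : GMod.{u} 𝒜} (f : X ⟶ Y) : kerι f ≫ f = 0 := hom_ext fun x => x.2

/-- The cokernel. -/
noncomputable abbrev cokerObj {X Y : GMod.{u} 𝒜} (f : X ⟶ Y) : GMod.{u} 𝒜 :=
  quotObj Y (LinearMap.range (lin f)) (isHomogeneous_range f)

/-- The projection to the cokernel. -/
noncomputable abbrev cokerπ {X Y : GMod.{u} 𝒜} (f : X ⟶ Y) : Y ⟶ cokerObj f :=
  quotπ Y (LinearMap.range (lin f)) (isHomogeneous_range f)

lemma comp_cokerπ {X Y : GMod.{u} 𝒜} (f : X ⟶ Y) : f ≫ cokerπ f = 0 :=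
  hom_ext fun x => (Submodule.Quotient.mk_eq_zero _).mpr ⟨x, rfl⟩

/-- The kernel fork is a limit. -/
noncomputable def kerIsLimit {X Y : GMod.{u} 𝒜} (f : X ⟶ Y) :
    IsLimit (KernelFork.ofι (kerι f) (kerι_comp f)) :=
  KernelFork.IsLimit.ofι _ _
    (fun {W} g hg => subLift _ (isHomogeneous_ker f) g
      (fun z => by
        have := congrArg (fun k => lin k z) hg
        exact this))
    (fun _ _ => rfl)
    (fun {W} g hg m hm => by
      rw [← cancel_mono (kerι f), hm]; rfl)

/-- The cokernel cofork is a colimit. -/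
noncomputable def cokerIsColimit {X Y : GMod.{u} 𝒜} (f : X ⟶ Y) :
    IsColimit (CokernelCofork.ofπ (cokerπ f) (comp_cokerπ f)) :=
  CokernelCofork.IsColimit.ofπ _ _
    (fun {W} g hg => quotDesc _ (isHomogeneous_range f) g
      (fun z hz => by
        obtain ⟨x, rfl⟩ := hz
        have := congrArg (fun k => lin k x) hg
        exact this))
    (fun _ _ => rfl)
    (fun {W} g hg m hm => by
      rw [← cancel_epi (cokerπ f), hm]; rfl)

scoped instance instHasKernels : HasKernels (GMod.{u} 𝒜) where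
  has_limit f := ⟨⟨⟨_, kerIsLimit f⟩⟩⟩

scoped instance instHasCokernels : HasCokernels (GMod.{u} 𝒜) where
  has_colimit f := ⟨⟨⟨_, cokerIsColimit f⟩⟩⟩

/-! ### Mono, epi, iso -/

lemma injective_of_mono {X Y : GMod.{u} 𝒜} (f : X ⟶ Y) [Mono f] : Function.Injective (lin f) := by
  have h : kerι f = 0 := by
    rw [← cancel_mono f, kerι_comp, zero_comp]
  rw [injective_iff_map_eq_zero]
  intro x hx
  have := congrArg (fun k => lin k (⟨x, hx⟩ : LinearMap.ker (lin f))) h
  exact this

lemma mono_of_injective {X Y : GMod.{u} 𝒜} (f : X ⟶ Y) (hf : Function.Injective (lin f)) : Mono f where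
  right_cancellation g h hgh := hom_ext fun x => hf (by
    have := congrArg (fun k => lin k x) hgh
    exact this)

lemma mono_iff {X Y : GMod.{u} 𝒜} (f : X ⟶ Y) : Mono f ↔ Function.Injective (lin f) :=
  ⟨fun _ => injective_of_mono f, mono_of_injective f⟩

lemma surjective_of_epi {X Y : GMod.{u} 𝒜} (f : X ⟶ Y) [Epi f] : Function.Surjective (lin f) := by
  have h : cokerπ f = 0 := by
    rw [← cancel_epi f, comp_cokerπ, comp_zero]
  intro y
  have := congrArg (fun k => lin k y) h
  exact (Submodule.Quotient.mk_eq_zero _).mp this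

lemma epi_of_surjective {X Y : GMod.{u} 𝒜} (f : X ⟶ Y) (hf : Function.Surjective (lin f)) : Epi f where
  left_cancellation g h hgh := hom_ext fun y => by
    obtain ⟨x, rfl⟩ := hf y
    have := congrArg (fun k => lin k x) hgh
    exact this

lemma epi_iff {X Y : GMod.{u} 𝒜} (f : X ⟶ Y) : Epi f ↔ Function.Surjective (lin f) :=
  ⟨fun _ => surjective_of_epi f, epi_of_surjective f⟩

lemma mem_gr_of_injective {X Y : GMod.{u} 𝒜} (f : X ⟶ Y) (hf : Function.Injective (lin f)) {g : ι}
    {x : X.carrier} (hx : lin f x ∈ Y.gr g) : x ∈ X.gr g := by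
  refine Dec.mem_of_proj_eq_zero X.gr fun h hh => hf ?_
  rw [map_proj, map_zero, Dec.proj_of_mem_ne Y.gr hx hh.symm]

/-- The inverse of a bijective homogeneous map. -/
noncomputable def isoOfBijective {X Y : GMod.{u} 𝒜} (f : X ⟶ Y) (hf : Function.Bijective (lin f)) : X ≅ Y where
  hom := f
  inv := mk (LinearEquiv.ofBijective (lin f) hf).symm.toLinearMap (fun g y hy => by
    apply mem_gr_of_injective f hf.1
    change lin f ((LinearEquiv.ofBijective (lin f) hf).symm y) ∈ _
    rw [LinearEquiv.apply_ofBijective_symm_apply]; exact hy)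
  hom_inv_id := hom_ext fun x => (LinearEquiv.ofBijective (lin f) hf).symm_apply_apply x
  inv_hom_id := hom_ext fun y => (LinearEquiv.ofBijective (lin f) hf).apply_symm_apply y

@[simp] lemma isoOfBijective_hom {X Y : GMod.{u} 𝒜} (f : X ⟶ Y) (hf : Function.Bijective (lin f)) :
    (isoOfBijective f hf).hom = f := rfl

lemma isIso_of_bijective {X Y : GMod.{u} 𝒜} (f : X ⟶ Y) (hf : Function.Bijective (lin f)) : IsIso f := by
  rw [← isoOfBijective_hom f hf]; infer_instance

lemma bijective_of_isIso {X Y : GMod.{u} 𝒜} (f : X ⟶ Y) [IsIso f] : Function.Bijective (lin f) :=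
  ⟨injective_of_mono f, surjective_of_epi f⟩

lemma isIso_iff {X Y : GMod.{u} 𝒜} (f : X ⟶ Y) : IsIso f ↔ Function.Bijective (lin f) :=
  ⟨fun _ => bijective_of_isIso f, isIso_of_bijective f⟩

/-! ### Abelian -/

/-- Every monomorphism is a kernel. -/
@[instance_reducible]
noncomputable def normalMono {X Y : GMod.{u} 𝒜} (f : X ⟶ Y) [Mono f] : NormalMono f where
  Z := cokerObj f
  g := cokerπ f
  w := comp_cokerπ f
  isLimit := by
    have hinj := injective_of_mono f
    have key : ∀ {W : GMod.{u} 𝒜} (g : W ⟶ Y), g ≫ cokerπ f = 0 → ∀ z, lin g z ∈ LinearMap.range (lin f) :=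
      fun g hg z => (Submodule.Quotient.mk_eq_zero _).mp (congrArg (fun k => lin k z) hg)
    refine KernelFork.IsLimit.ofι _ _
      (fun {W} g hg => mk ((LinearEquiv.ofInjective (lin f) hinj).symm.toLinearMap ∘ₗ
        (lin g).codRestrict (LinearMap.range (lin f)) (key g hg)) ?_) ?_ ?_
    · intro i z hz
      apply mem_gr_of_injective f hinj
      have h1 : lin f ((LinearEquiv.ofInjective (lin f) hinj).symm
          ((lin g).codRestrict (LinearMap.range (lin f)) (key g hg) z)) = lin g z := by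
        have := (LinearEquiv.ofInjective (lin f) hinj).apply_symm_apply
          ((lin g).codRestrict (LinearMap.range (lin f)) (key g hg) z)
        exact congrArg Subtype.val this
      change lin f ((LinearEquiv.ofInjective (lin f) hinj).symm
          ((lin g).codRestrict (LinearMap.range (lin f)) (key g hg) z)) ∈ _
      rw [h1]
      exact isGrHom g i z hz
    · intro W g hg
      refine hom_ext fun z => ?_
      have := (LinearEquiv.ofInjective (lin f) hinj).apply_symm_apply
          ((lin g).codRestrict (LinearMap.range (lin f)) (key g hg) z)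
      exact congrArg Subtype.val this
    · intro W g hg m hm
      rw [← cancel_mono f, hm]
      refine hom_ext fun z => ?_
      have := (LinearEquiv.ofInjective (lin f) hinj).apply_symm_apply
          ((lin g).codRestrict (LinearMap.range (lin f)) (key g hg) z)
      exact (congrArg Subtype.val this).symm

/-- Every epimorphism is a cokernel. -/
@[instance_reducible]
noncomputable def normalEpi {X Y : GMod.{u} 𝒜} (f : X ⟶ Y) [Epi f] : NormalEpi f where
  W := kerObj f
  g := kerι f
  w := kerι_comp f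
  isColimit := by
    have hsurj := surjective_of_epi f
    have key : ∀ {W : GMod.{u} 𝒜} (g : X ⟶ W), kerι f ≫ g = 0 → ∀ x, lin f x = 0 → lin g x = 0 :=
      fun g hg x hx => congrArg (fun k => lin k (⟨x, hx⟩ : LinearMap.ker (lin f))) hg
    have hex : ∀ {W : GMod.{u} 𝒜} (g : X ⟶ W) (hg : kerι f ≫ g = 0),
        ∃ m : Y ⟶ W, f ≫ m = g := by
      intro W g hg
      refine ⟨mk (((LinearMap.ker (lin f)).liftQ (lin g) (fun x hx => key g hg x hx)) ∘ₗ
        ((lin f).quotKerEquivOfSurjective hsurj).symm.toLinearMap) ?_, ?_⟩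
      · intro i y hy
        obtain ⟨x, rfl⟩ := hsurj y
        have h1 : lin f (Dec.proj X.gr i x) = lin f x := by
          rw [map_proj, Dec.proj_of_mem Y.gr hy]
        rw [← h1]
        change (LinearMap.ker (lin f)).liftQ (lin g) (fun x hx => key g hg x hx)
          (((lin f).quotKerEquivOfSurjective hsurj).symm (lin f (Dec.proj X.gr i x))) ∈ _
        have h2 : ((lin f).quotKerEquivOfSurjective hsurj).symm (lin f (Dec.proj X.gr i x)) =
            Submodule.Quotient.mk (Dec.proj X.gr i x) := by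
          rw [LinearEquiv.symm_apply_eq]; rfl
        rw [h2]
        exact isGrHom g i _ (Dec.proj_mem X.gr i x)
      · refine hom_ext fun x => ?_
        change (LinearMap.ker (lin f)).liftQ (lin g) (fun x hx => key g hg x hx)
          (((lin f).quotKerEquivOfSurjective hsurj).symm (lin f x)) = lin g x
        have h2 : ((lin f).quotKerEquivOfSurjective hsurj).symm (lin f x) =
            Submodule.Quotient.mk x := by
          rw [LinearEquiv.symm_apply_eq]; rfl
        rw [h2]; rfl
    exact CokernelCofork.IsColimit.ofπ _ _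
      (fun {W} g hg => (hex g hg).choose)
      (fun {W} g hg => (hex g hg).choose_spec)
      (fun {W} g hg m hm => by
        rw [← cancel_epi f, hm]; exact (hex g hg).choose_spec.symm)

scoped instance instIsNormalMonoCategory : IsNormalMonoCategory (GMod.{u} 𝒜) where
  normalMonoOfMono f _ := ⟨normalMono f⟩

scoped instance instIsNormalEpiCategory : IsNormalEpiCategory (GMod.{u} 𝒜) where
  normalEpiOfEpi f _ := ⟨normalEpi f⟩

noncomputable scoped instance instAbelian : Abelian (GMod.{u} 𝒜) where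

end K963.Cat
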