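import Groth.Agent.GrLC.K963.Cat
import Mathlib.Algebra.Homology.ShortComplex.Exact
import Mathlib.Algebra.Homology.ShortComplex.ExactFunctor
import Mathlib.Algebra.Homology.ShortComplex.ModuleCat

/-!
# Exactness in the category of graded modules; forgetful, piece and shift functors
-/

set_option autoImplicit false
universe u

open CategoryTheory CategoryTheory.Limits GrLC

namespace K963.Cat

variable {ι : Type} [AddCommGroup ι] [DecidableEq ι]
variable {R : Type u} [CommRing R] {σ : Type u} [SetLike σ R] [AddSubgroupClass σ R]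
variable {𝒜 : ι → σ} [GradedRing 𝒜]

lemma exact_iff (S : ShortComplex (GMod.{u} 𝒜)) :
    S.Exact ↔ ∀ x, lin S.g x = 0 → ∃ y, lin S.f y = x := by
  rw [S.exact_iff_kernel_ι_comp_cokernel_π_zero]
  constructor
  · intro h x hx
    have h1 : kerι S.g ≫ cokerπ S.f = 0 := by
      have e1 : kernel.lift S.g (kerι S.g) (kerι_comp S.g) ≫ kernel.ι S.g = kerι S.g :=
        kernel.lift_ι _ _ _
      have e2 : cokernel.π S.f ≫ cokernel.desc S.f (cokerπ S.f) (comp_cokerπ S.f) = cokerπ S.f :=
        cokernel.π_desc _ _ _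
      rw [← e1, ← e2, Category.assoc, reassoc_of% h, zero_comp, comp_zero]
    have := congrArg (fun k => lin k (⟨x, hx⟩ : LinearMap.ker (lin S.g))) h1
    exact (Submodule.Quotient.mk_eq_zero _).mp this
  · intro h
    have h1 : kerι S.g ≫ cokerπ S.f = 0 := hom_ext fun x =>
      (Submodule.Quotient.mk_eq_zero _).mpr (h x.1 x.2)
    have e1 : (kerIsLimit S.g).lift (KernelFork.ofι (kernel.ι S.g) (kernel.condition S.g)) ≫ kerι S.g
        = kernel.ι S.g := (kerIsLimit S.g).fac _ WalkingParallelPair.zero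
    have e2 : cokerπ S.f ≫ (cokerIsColimit S.f).desc
        (CokernelCofork.ofπ (cokernel.π S.f) (cokernel.condition S.f)) = cokernel.π S.f :=
      (cokerIsColimit S.f).fac _ WalkingParallelPair.one
    rw [← e1, ← e2, Category.assoc, reassoc_of% h1, zero_comp, comp_zero]

lemma exact_iff' (S : ShortComplex (GMod.{u} 𝒜)) :
    S.Exact ↔ Function.Exact (lin S.f) (lin S.g) := by
  rw [exact_iff]
  constructor
  · intro h x
    constructor
    · exact h x
    · rintro ⟨y, rfl⟩
      exact congrArg (fun k => lin k y) S.zero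
  · intro h x hx
    exact (h x).mp hx

lemma shortExact_iff (S : ShortComplex (GMod.{u} 𝒜)) :
    S.ShortExact ↔ Function.Injective (lin S.f) ∧ Function.Exact (lin S.f) (lin S.g) ∧
      Function.Surjective (lin S.g) := by
  constructor
  · intro h
    have := h.mono_f
    have := h.epi_g
    exact ⟨injective_of_mono _, (exact_iff' S).mp h.exact, surjective_of_epi _⟩
  · rintro ⟨h1, h2, h3⟩
    have := mono_of_injective _ h1
    have := epi_of_surjective _ h3
    exact ShortComplex.ShortExact.mk ((exact_iff' S).mpr h2)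

lemma isZero_iff (X : GMod.{u} 𝒜) : IsZero X ↔ Subsingleton X.carrier := by
  constructor
  · intro h
    refine ⟨fun x y => ?_⟩
    have h1 : 𝟙 X = 0 := h.eq_of_src _ _
    have hx := congrArg (fun k => lin k x) h1
    have hy := congrArg (fun k => lin k y) h1
    change x = 0 at hx
    change y = 0 at hy
    rw [hx, hy]
  · intro h; exact isZero_of_subsingleton X

/-! ### The forgetful functor -/

variable (𝒜) in
/-- The forgetful functor to `R`-modules. -/
def forgetMod : GMod.{u} 𝒜 ⥤ ModuleCat.{u} R where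
  obj X := ModuleCat.of R X.carrier
  map f := ModuleCat.ofHom (lin f)

instance : (forgetMod 𝒜).Additive where

instance : (forgetMod 𝒜).Faithful where
  map_injective h := hom_ext_lin (by
    have := congrArg ModuleCat.Hom.hom h
    exact this)

lemma forgetMod_exact (S : ShortComplex (GMod.{u} 𝒜)) (hS : S.Exact) : (S.map (forgetMod 𝒜)).Exact := by
  rw [ShortComplex.moduleCat_exact_iff]
  intro x hx
  exact (exact_iff S).mp hS x hx

instance : (forgetMod 𝒜).PreservesHomology :=
  ((Functor.exact_tfae (forgetMod 𝒜)).out 1 2).mp forgetMod_exact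

lemma preserves_of_exact {C D : Type*} [Category* C] [Category* D] [Abelian C] [Abelian D] (F : C ⥤ D)
    [F.Additive] (h : ∀ S : ShortComplex C, S.Exact → (S.map F).Exact) :
    PreservesFiniteLimits F ∧ PreservesFiniteColimits F :=
  ((Functor.exact_tfae F).out 1 3).mp h

instance : PreservesFiniteLimits (forgetMod 𝒜) := (preserves_of_exact _ forgetMod_exact).1

instance : PreservesFiniteColimits (forgetMod 𝒜) := (preserves_of_exact _ forgetMod_exact).2

instance : (forgetMod 𝒜).ReflectsIsomorphisms where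
  reflects f _ := by
    apply isIso_of_bijective
    have h : IsIso ((forgetMod 𝒜).map f) := inferInstance
    exact (ConcreteCategory.isIso_iff_bijective _).mp h

/-! ### The pieces -/

variable (𝒜) in
/-- The functor `X ↦ X_g`, with values in modules over the degree zero subring. -/
def pieceMod (g : ι) : GMod.{u} 𝒜 ⥤ ModuleCat.{u} (deg0 𝒜) where
  obj X := ModuleCat.of (deg0 𝒜) (GrLC.comp 𝒜 X.gr g)
  map {X Y} f := ModuleCat.ofHom
    { toFun := fun x => (⟨lin f x.1, isGrHom f g x.1 x.2⟩ : GrLC.comp 𝒜 Y.gr g)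
      map_add' := fun x y => Subtype.ext (map_add (lin f) _ _)
      map_smul' := fun r x => Subtype.ext (map_smul (lin f) (r : R) _) }

instance (g : ι) : (pieceMod 𝒜 g).Additive where

lemma pieceMod_exact (g : ι) (S : ShortComplex (GMod.{u} 𝒜)) (hS : S.Exact) :
    (S.map (pieceMod 𝒜 g)).Exact := by
  rw [ShortComplex.moduleCat_exact_iff]
  rintro ⟨x, hx⟩ hx'
  obtain ⟨y, hy⟩ := (exact_iff S).mp hS x (congrArg Subtype.val hx')
  refine ⟨(⟨Dec.proj S.X₁.gr g y, Dec.proj_mem S.X₁.gr g y⟩ : GrLC.comp 𝒜 S.X₁.gr g), Subtype.ext ?_⟩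
  change lin S.f (Dec.proj S.X₁.gr g y) = x
  rw [map_proj, hy]
  exact Dec.proj_of_mem S.X₂.gr hx

instance (g : ι) : (pieceMod 𝒜 g).PreservesHomology :=
  ((Functor.exact_tfae (pieceMod 𝒜 g)).out 1 2).mp (pieceMod_exact g)

instance (g : ι) : PreservesFiniteLimits (pieceMod 𝒜 g) :=
  (preserves_of_exact _ (pieceMod_exact g)).1

instance (g : ι) : PreservesFiniteColimits (pieceMod 𝒜 g) :=
  (preserves_of_exact _ (pieceMod_exact g)).2

/-! ### Shifts -/

/-- The shifted graded module `X(d)`, same module, `X(d)_g = X_{g+d}`. -/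
noncomputable def shiftObj (d : ι) (X : GMod.{u} 𝒜) : GMod.{u} 𝒜 where
  carrier := X.carrier
  gr g := X.gr (g + d)
  dec := Dec.ofProj _ (fun g x => Dec.proj X.gr (g + d) x)
    (fun g x => Dec.proj_mem X.gr _ _)
    (fun g x y => map_add _ _ _)
    (fun g h x hx hgh => Dec.proj_of_mem_ne X.gr hx (fun e => hgh (add_right_cancel e)))
    (fun x => by
      obtain ⟨s, hs, hx⟩ := Dec.sum_proj X.gr x
      refine ⟨s.image (fun g => g - d), fun g hg => hs _ (fun h => hg ?_), ?_⟩
      · exact Finset.mem_image.mpr ⟨_, h, add_sub_cancel_right g d⟩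
      · rw [Finset.sum_image (fun a _ b _ h => sub_left_injective h)]
        simpa using hx)
  gsmul := ⟨fun {g h} r x hr hx => by
    have := SetLike.GradedSMul.smul_mem (A := 𝒜) (B := X.gr) hr hx
    rw [vadd_eq_add, ← add_assoc] at this
    exact this⟩

/-- The shift functor. -/
noncomputable def shift (𝒜 : ι → σ) [GradedRing 𝒜] (d : ι) : GMod.{u} 𝒜 ⥤ GMod.{u} 𝒜 where
  obj X := shiftObj d X
  map {X Y} f := mk (X := shiftObj d X) (Y := shiftObj d Y) (lin (X := X) (Y := Y) f : X.carrier →ₗ[R] Y.carrier)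
    (fun g x hx => isGrHom (X := X) (Y := Y) f (g + d) x hx)

lemma lin_shift_map {X Y : GMod.{u} 𝒜} (d : ι) (f : X ⟶ Y) (x : X.carrier) :
    lin ((shift 𝒜 d).map f) x = lin f x := rfl

instance (d : ι) : (shift 𝒜 d).Additive where
  map_add := rfl

end K963.Cat
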