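import Groth.Agent.GrLC.K963.Res
import Mathlib.CategoryTheory.Abelian.RightDerived

/-!
# The torsion functor on graded modules and graded local cohomology as a right derived functor
-/

set_option autoImplicit false
set_option linter.unusedVariables false
set_option linter.unusedSectionVars false
universe u

open CategoryTheory CategoryTheory.Limits GrLC

namespace K963.Cat

variable {ι : Type} [AddCommGroup ι] [DecidableEq ι]
variable {R : Type u} [CommRing R] {σ : Type u} [SetLike σ R] [AddSubgroupClass σ R]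
variable {𝒜 : ι → σ} [GradedRing 𝒜]

lemma isHomogeneous_pow (a : HomogeneousIdeal 𝒜) (n : ℕ) : (a.toIdeal ^ n).IsHomogeneous 𝒜 := by
  induction n with
  | zero => rw [pow_zero, Ideal.one_eq_top]; exact Ideal.IsHomogeneous.top 𝒜
  | succ n ih => rw [pow_succ]; exact ih.mul a.isHomogeneous

lemma smul_proj_of_mem (X : GMod.{u} 𝒜) {r : R} {h : ι} (hr : r ∈ 𝒜 h) (g : ι) (x : X.carrier) :
    r • Dec.proj X.gr g x = Dec.proj X.gr (h + g) (r • x) := by
  induction x using DirectSum.Decomposition.inductionOn X.gr with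
  | zero => simp
  | add x y hx hy => rw [map_add, smul_add, smul_add, map_add, hx, hy]
  | @homogeneous k x =>
    have h1 : r • (x : X.carrier) ∈ X.gr (h + k) :=
      SetLike.GradedSMul.smul_mem (A := 𝒜) (B := X.gr) hr x.2
    by_cases hk : k = g
    · subst hk
      rw [Dec.proj_of_mem X.gr x.2, Dec.proj_of_mem X.gr h1]
    · rw [Dec.proj_of_mem_ne X.gr x.2 hk, smul_zero,
        Dec.proj_of_mem_ne X.gr h1 (fun e => hk (add_left_cancel e))]

lemma gam_isHomogeneous (a : HomogeneousIdeal 𝒜) (X : GMod.{u} 𝒜) :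
    (gam a.toIdeal X.carrier).IsHomogeneous X.gr := by
  intro g x hx
  obtain ⟨n, hn⟩ := hx
  refine ⟨n, fun r hr => ?_⟩
  change r • Dec.proj X.gr g x = 0
  obtain ⟨s, hs, hr'⟩ := Dec.sum_proj 𝒜 r
  rw [hr', Finset.sum_smul]
  refine Finset.sum_eq_zero fun h _ => ?_
  have h2 : Dec.proj 𝒜 h r • x = 0 := hn _ (isHomogeneous_pow a n h hr)
  rw [smul_proj_of_mem X (Dec.proj_mem 𝒜 h r), h2, map_zero]

lemma mem_gam_map {a : Ideal R} {M N : Type u} [AddCommGroup M] [Module R M] [AddCommGroup N] [Module R N]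
    (f : M →ₗ[R] N) {x : M} (hx : x ∈ gam a M) : f x ∈ gam a N := by
  obtain ⟨n, hn⟩ := hx
  exact ⟨n, fun r hr => by rw [← map_smul, hn r hr, map_zero]⟩

/-- The graded torsion functor. -/
noncomputable def Gam (a : HomogeneousIdeal 𝒜) : GMod.{u} 𝒜 ⥤ GMod.{u} 𝒜 where
  obj X := subObj X (gam a.toIdeal X.carrier) (gam_isHomogeneous a X)
  map {X Y} f := mk (X := subObj X (gam a.toIdeal X.carrier) (gam_isHomogeneous a X))
    (Y := subObj Y (gam a.toIdeal Y.carrier) (gam_isHomogeneous a Y))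
    ((lin f).restrict (fun x hx => mem_gam_map (lin f) hx)) (fun g x hx => isGrHom f g _ hx)

/-- The inclusion `Γ_a X → X`. -/
noncomputable def gamι (a : HomogeneousIdeal 𝒜) (X : GMod.{u} 𝒜) : (Gam a).obj X ⟶ X :=
  subι X _ (gam_isHomogeneous a X)

lemma gamι_injective (a : HomogeneousIdeal 𝒜) (X : GMod.{u} 𝒜) : Function.Injective (lin (gamι a X)) :=
  Subtype.val_injective

instance (a : HomogeneousIdeal 𝒜) (X : GMod.{u} 𝒜) : Mono (gamι a X) :=
  mono_of_injective _ (gamι_injective a X)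

lemma gamι_mem (a : HomogeneousIdeal 𝒜) (X : GMod.{u} 𝒜) (x : ((Gam a).obj X).carrier) :
    lin (gamι a X) x ∈ gam a.toIdeal X.carrier := by
  have h : ∀ x : gam a.toIdeal X.carrier, (x : X.carrier) ∈ gam a.toIdeal X.carrier := fun x => x.2
  exact h x

/-- The element of `Γ_a X` given by a torsion element. -/
def gmk (a : HomogeneousIdeal 𝒜) (X : GMod.{u} 𝒜) (x : X.carrier) (hx : x ∈ gam a.toIdeal X.carrier) :
    ((Gam a).obj X).carrier := (⟨x, hx⟩ : gam a.toIdeal X.carrier)

lemma gamι_gmk (a : HomogeneousIdeal 𝒜) (X : GMod.{u} 𝒜) (x : X.carrier) (hx : x ∈ gam a.toIdeal X.carrier) :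
    lin (gamι a X) (gmk a X x hx) = x := rfl

lemma gmk_gamι (a : HomogeneousIdeal 𝒜) (X : GMod.{u} 𝒜) (x : ((Gam a).obj X).carrier) :
    gmk a X (lin (gamι a X) x) (gamι_mem a X x) = x := rfl

@[reassoc]
lemma gamι_naturality (a : HomogeneousIdeal 𝒜) {X Y : GMod.{u} 𝒜} (f : X ⟶ Y) :
    (Gam a).map f ≫ gamι a Y = gamι a X ≫ f := rfl

lemma gamι_map_apply (a : HomogeneousIdeal 𝒜) {X Y : GMod.{u} 𝒜} (f : X ⟶ Y) (x : ((Gam a).obj X).carrier) :
    lin (gamι a Y) (lin ((Gam a).map f) x) = lin f (lin (gamι a X) x) := rfl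

lemma mem_gr_gamι (a : HomogeneousIdeal 𝒜) (X : GMod.{u} 𝒜) (x : ((Gam a).obj X).carrier) (g : ι) :
    x ∈ ((Gam a).obj X).gr g ↔ lin (gamι a X) x ∈ X.gr g := Iff.rfl

instance (a : HomogeneousIdeal 𝒜) : (Gam (𝒜 := 𝒜) a).Additive where
  map_add {X Y f g} := hom_ext fun x => gamι_injective a Y rfl

lemma gam_leftExact (a : HomogeneousIdeal 𝒜) (S : ShortComplex (GMod.{u} 𝒜)) (hS : S.ShortExact) :
    (S.map (Gam a)).Exact ∧ Mono ((Gam a).map S.f) := by
  rw [shortExact_iff] at hS
  constructor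
  · rw [exact_iff]
    intro x hx
    have h1 : lin S.g (lin (gamι a S.X₂) x) = 0 := by
      exact (congrArg (lin (gamι a S.X₃)) hx).trans (map_zero (lin (gamι a S.X₃)))
    obtain ⟨y, hy⟩ := (hS.2.1 _).mp h1
    have hy' : y ∈ gam a.toIdeal S.X₁.carrier := by
      obtain ⟨n, hn⟩ := gamι_mem a S.X₂ x
      refine ⟨n, fun r hr => hS.1 ?_⟩
      rw [map_smul, hy, hn r hr, map_zero]
    exact ⟨gmk a _ y hy', gamι_injective a _ hy⟩
  · apply mono_of_injective
    intro x y hxy
    apply gamι_injective a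
    apply hS.1
    exact congrArg (lin (gamι a S.X₂)) hxy

instance (a : HomogeneousIdeal 𝒜) : PreservesFiniteLimits (Gam (𝒜 := 𝒜) a) :=
  ((Functor.preservesFiniteLimits_tfae (Gam a)).out 0 3).mp (gam_leftExact a)

/-! ### Homology classes -/

section Cyc

variable (K K' : CochainComplex (GMod.{u} 𝒜) ℕ) (i : ℕ)

/-- The class map from the concrete kernel to the homology. -/
noncomputable def cyc : kerObj (K.d i (i + 1)) ⟶ K.homology i :=
  K.liftCycles (kerι (K.d i (i + 1))) (i + 1) (by simp) (kerι_comp _) ≫ K.homologyπ i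

lemma cyc_surjective : Function.Surjective (lin (cyc K i)) := by
  intro x
  obtain ⟨c, rfl⟩ := surjective_of_epi (K.homologyπ i) x
  have hc : lin (K.d i (i + 1)) (lin (K.iCycles i) c) = 0 :=
    congrArg (fun k => lin k c) (K.iCycles_d i (i + 1))
  refine ⟨(⟨lin (K.iCycles i) c, hc⟩ : LinearMap.ker (lin (K.d i (i + 1)))), ?_⟩
  refine congrArg (lin (K.homologyπ i)) ?_
  apply injective_of_mono (K.iCycles i)
  exact congrArg (fun k => lin k (⟨lin (K.iCycles i) c, hc⟩ : LinearMap.ker (lin (K.d i (i + 1)))))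
    (K.liftCycles_i (kerι (K.d i (i + 1))) (i + 1) (by simp) (kerι_comp _))

lemma cyc_eq_zero_iff (p : ℕ) (hp : (ComplexShape.up ℕ).prev i = p)
    (z : LinearMap.ker (lin (K.d i (i + 1)))) :
    lin (cyc K i) z = 0 ↔ ∃ y, lin (K.d p i) y = z.1 := by
  have hex : (ShortComplex.mk _ _ (K.toCycles_comp_homologyπ p i)).Exact :=
    ShortComplex.exact_of_g_is_cokernel _ (K.homologyIsCokernel p i hp)
  have hz : lin (K.iCycles i) (lin (K.liftCycles (kerι (K.d i (i + 1))) (i + 1) (by simp)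
      (kerι_comp _)) z) = z.1 :=
    congrArg (fun k => lin k z) (K.liftCycles_i (kerι (K.d i (i + 1))) (i + 1) (by simp) (kerι_comp _))
  constructor
  · intro h
    obtain ⟨y, hy⟩ := (exact_iff _).mp hex _ h
    refine ⟨y, ?_⟩
    have h1 := congrArg (lin (K.iCycles i)) hy
    rw [hz] at h1
    rw [← h1]
    exact (congrArg (fun k => lin k y) (K.toCycles_i p i)).symm
  · rintro ⟨y, hy⟩
    have h1 : lin (K.toCycles p i) y = lin (K.liftCycles (kerι (K.d i (i + 1))) (i + 1) (by simp)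
      (kerι_comp _)) z := by
      apply injective_of_mono (K.iCycles i)
      rw [hz, ← hy]
      exact congrArg (fun k => lin k y) (K.toCycles_i p i)
    change lin (K.homologyπ i) (lin (K.liftCycles (kerι (K.d i (i + 1))) (i + 1) (by simp)
      (kerι_comp _)) z) = 0
    rw [← h1]
    exact congrArg (fun k => lin k y) (K.toCycles_comp_homologyπ p i)

variable {K K'}

/-- The map induced on kernels by a morphism of complexes. -/
noncomputable def cycMap (φ : K ⟶ K') : kerObj (K.d i (i + 1)) ⟶ kerObj (K'.d i (i + 1)) :=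
  subLift _ (isHomogeneous_ker _) (kerι (K.d i (i + 1)) ≫ φ.f i) (fun z => by
    have h1 := congrArg (fun k => lin k (lin (kerι (K.d i (i + 1))) z)) (φ.comm i (i + 1))
    have h2 := congrArg (fun k => lin k z) (kerι_comp (K.d i (i + 1)))
    refine LinearMap.mem_ker.mpr (h1.trans ?_)
    change lin (φ.f (i + 1)) (lin (kerι (K.d i (i + 1)) ≫ (K.d i (i + 1))) z) = 0
    rw [kerι_comp]
    exact map_zero _)

lemma cycMap_apply (φ : K ⟶ K') (z : LinearMap.ker (lin (K.d i (i + 1)))) :
    lin (kerι (K'.d i (i + 1))) (lin (cycMap i φ) z) = lin (φ.f i) z.1 := rfl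

lemma cyc_naturality (φ : K ⟶ K') :
    cyc K i ≫ HomologicalComplex.homologyMap φ i = cycMap i φ ≫ cyc K' i := by
  have h1 : K.liftCycles (kerι (K.d i (i + 1))) (i + 1) (by simp) (kerι_comp _) ≫
      HomologicalComplex.cyclesMap φ i =
      cycMap i φ ≫ K'.liftCycles (kerι (K'.d i (i + 1))) (i + 1) (by simp) (kerι_comp _) := by
    rw [← cancel_mono (K'.iCycles i), Category.assoc, Category.assoc, HomologicalComplex.cyclesMap_i,
      HomologicalComplex.liftCycles_i, HomologicalComplex.liftCycles_i_assoc]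
    rfl
  rw [cyc, cyc, Category.assoc, HomologicalComplex.homologyπ_naturality, reassoc_of% h1]

end Cyc

end K963.Cat
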