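import Groth.Agent.GrLC.K963.Exact
import Mathlib.Algebra.Category.ModuleCat.EnoughInjectives
import Mathlib.CategoryTheory.Abelian.Injective.Resolution
import Mathlib.Algebra.Module.BigOperators

/-!
# Enough injectives in the category of graded modules
-/

set_option autoImplicit false
set_option linter.unusedVariables false
set_option linter.unusedSectionVars false
universe u

open CategoryTheory CategoryTheory.Limits GrLC

namespace K963.Cat

variable {ι : Type} [AddCommGroup ι] [DecidableEq ι]
variable {R : Type u} [CommRing R] {σ : Type u} [SetLike σ R] [AddSubgroupClass σ R]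
variable {𝒜 : ι → σ} [GradedRing 𝒜]

/-! ### Bundling -/

section Bundle

variable {M : Type u} [AddCommGroup M] [Module R M] {τ : Type u} [SetLike τ M] [AddSubgroupClass τ M]

variable (𝒜) in
/-- Bundle a graded module with pieces in any `SetLike` type. -/
noncomputable def toGMod (ℳ : ι → τ) [DirectSum.Decomposition ℳ] [SetLike.GradedSMul 𝒜 ℳ] : GMod.{u} 𝒜 where
  carrier := M
  gr g := AddSubgroup.ofClass (ℳ g)
  dec := Dec.ofProj _ (fun g x => Dec.proj ℳ g x) (fun g x => Dec.proj_mem ℳ g x)
    (fun g x y => map_add _ _ _) (fun g h x hx hgh => Dec.proj_of_mem_ne ℳ hx hgh)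
    (fun x => Dec.sum_proj ℳ x)
  gsmul := ⟨fun {g h} r x hr hx => SetLike.GradedSMul.smul_mem (A := 𝒜) (B := ℳ) hr hx⟩

end Bundle

lemma injective_iff (X : GMod.{u} 𝒜) : Injective X ↔ IsStarInj 𝒜 X.gr := by
  constructor
  · intro h A B f hf hinj g hg
    have : Mono (mk (X := A) (Y := B) f hf) := mono_of_injective _ hinj
    obtain ⟨k, hk⟩ := h.factors (mk (X := A) (Y := X) g hg) (mk (X := A) (Y := B) f hf)
    exact ⟨lin k, isGrHom k, congrArg lin hk⟩
  · intro h
    refine ⟨fun {A B} g f _ => ?_⟩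
    obtain ⟨k, hk, e⟩ := h A B (lin f) (isGrHom f) (injective_of_mono f) (lin g) (isGrHom g)
    exact ⟨mk k hk, hom_ext_lin e⟩

/-! ### The right adjoint of the forgetful functor -/

section Coind

variable (𝒜) in
/-- The module `⊕_g M e_g` on which a homogeneous element `a` of degree `h` acts by `a (m e_g) = (a m) e_{h+g}`. -/
def Coind (_ : ι → σ) (M : Type u) [AddCommGroup M] : Type u := ι →₀ M

variable (M : Type u) [AddCommGroup M] [Module R M]

noncomputable instance : AddCommGroup (Coind 𝒜 M) := inferInstanceAs (AddCommGroup (ι →₀ M))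

variable {M}

variable (𝒜) in
/-- The element `m e_g`. -/
noncomputable def sg (g : ι) : M →+ Coind 𝒜 M := (Finsupp.singleAddHom g : M →+ (ι →₀ M))

/-- The coefficient at `g`. -/
noncomputable def coeff (g : ι) : Coind 𝒜 M →+ M := (Finsupp.applyAddHom g : (ι →₀ M) →+ M)

lemma coeff_sg_same (g : ι) (m : M) : coeff g (sg 𝒜 g m) = m := Finsupp.single_eq_same
lemma coeff_sg_ne {g h : ι} (hgh : g ≠ h) (m : M) : coeff h (sg 𝒜 g m) = 0 :=
  Finsupp.single_eq_of_ne (Ne.symm hgh)

lemma coind_ext {x y : Coind 𝒜 M} (h : ∀ g, coeff g x = coeff g y) : x = y :=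
  Finsupp.ext h

lemma coind_sum (x : Coind 𝒜 M) : ∃ s : Finset ι, (∀ g, g ∉ s → coeff g x = 0) ∧
    x = ∑ g ∈ s, sg 𝒜 g (coeff g x) :=
  ⟨(show ι →₀ M from x).support, fun g hg => Finsupp.notMem_support_iff.mp hg,
    (Finsupp.sum_single (show ι →₀ M from x)).symm⟩

lemma coind_induction {p : Coind 𝒜 M → Prop} (x : Coind 𝒜 M) (h0 : p 0) (hadd : ∀ x y, p x → p y → p (x + y))
    (hs : ∀ g m, p (sg 𝒜 g m)) : p x := by
  obtain ⟨s, -, hx⟩ := coind_sum x
  rw [hx]
  exact Finset.sum_induction _ p hadd h0 (fun g _ => hs g _)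

/-- Maps out of `Coind`. -/
noncomputable def coindHom {N : Type*} [AddCommGroup N] (f : ι → M →+ N) : Coind 𝒜 M →+ N :=
  (Finsupp.liftAddHom f : (ι →₀ M) →+ N)

lemma coindHom_sg {N : Type*} [AddCommGroup N] (f : ι → M →+ N) (g : ι) (m : M) :
    coindHom (𝒜 := 𝒜) f (sg 𝒜 g m) = f g m := Finsupp.liftAddHom_apply_single _ _ _

variable (𝒜 M) in
/-- The action, as a biadditive map. -/
noncomputable def act : R →+ Coind 𝒜 M →+ Coind 𝒜 M :=
  (DirectSum.toAddMonoid (fun h =>
    ({ toFun := fun a : 𝒜 h => coindHom (𝒜 := 𝒜) (fun g => (sg 𝒜 (h + g)).comp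
        (DistribSMul.toAddMonoidHom M (a : R)))
       map_zero' := by
        ext x
        induction x using coind_induction with
        | h0 => simp
        | hadd x y hx hy => rw [map_add, map_add, hx, hy]
        | hs g m =>
          rw [coindHom_sg]
          simp
       map_add' := fun a b => by
        ext x
        induction x using coind_induction with
        | h0 => simp
        | hadd x y hx hy => rw [map_add, map_add, hx, hy]
        | hs g m =>
          rw [AddMonoidHom.add_apply, coindHom_sg, coindHom_sg, coindHom_sg]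
          simp [add_smul] } : 𝒜 h →+ (Coind 𝒜 M →+ Coind 𝒜 M)))).comp
    (DirectSum.decomposeAddEquiv 𝒜).toAddMonoidHom

lemma act_apply_sg {r : R} {h : ι} (hr : r ∈ 𝒜 h) (g : ι) (m : M) :
    act 𝒜 M r (sg 𝒜 g m) = sg 𝒜 (h + g) (r • m) := by
  rw [act, AddMonoidHom.comp_apply]
  have h1 : (DirectSum.decomposeAddEquiv 𝒜).toAddMonoidHom r = DirectSum.of (fun h => 𝒜 h) h ⟨r, hr⟩ :=
    DirectSum.decompose_of_mem 𝒜 hr
  rw [h1, DirectSum.toAddMonoid_of]
  exact coindHom_sg _ _ _

lemma act_mul (r s : R) (x : Coind 𝒜 M) : act 𝒜 M (r * s) x = act 𝒜 M r (act 𝒜 M s x) := by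
  induction r using DirectSum.Decomposition.inductionOn 𝒜 with
  | zero => simp
  | add r r' hr hr' => rw [add_mul, map_add, map_add, AddMonoidHom.add_apply, AddMonoidHom.add_apply, hr, hr']
  | homogeneous r =>
    induction s using DirectSum.Decomposition.inductionOn 𝒜 with
    | zero => simp
    | add s s' hs hs' => rw [mul_add, map_add, map_add, AddMonoidHom.add_apply, AddMonoidHom.add_apply,
        map_add, hs, hs']
    | homogeneous s =>
      induction x using coind_induction with
      | h0 => simp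
      | hadd x y hx hy => rw [map_add, map_add, map_add, hx, hy]
      | hs g m =>
        rw [act_apply_sg (SetLike.mul_mem_graded r.2 s.2), act_apply_sg s.2, act_apply_sg r.2, add_assoc,
          mul_smul]

lemma act_one (x : Coind 𝒜 M) : act 𝒜 M 1 x = x := by
  induction x using coind_induction with
  | h0 => simp
  | hadd x y hx hy => rw [map_add, hx, hy]
  | hs g m => rw [act_apply_sg (SetLike.one_mem_graded 𝒜), zero_add, one_smul]

noncomputable instance : Module R (Coind 𝒜 M) where
  smul r x := act 𝒜 M r x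
  one_smul := act_one
  mul_smul := act_mul
  smul_zero r := map_zero _
  smul_add r := map_add _
  add_smul r s x := by
    change act 𝒜 M (r + s) x = _
    rw [map_add]; rfl
  zero_smul x := by
    change act 𝒜 M 0 x = _
    rw [map_zero]; rfl

lemma smul_sg {r : R} {h : ι} (hr : r ∈ 𝒜 h) (g : ι) (m : M) :
    r • (sg 𝒜 g m) = sg 𝒜 (h + g) (r • m) := act_apply_sg hr g m

variable (𝒜 M) in
/-- The coinduced graded module. -/
noncomputable def coindObj : GMod.{u} 𝒜 where
  carrier := Coind 𝒜 M
  gr g := (sg 𝒜 g : M →+ Coind 𝒜 M).range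
  dec := Dec.ofProj _ (fun g x => sg 𝒜 g (coeff g x)) (fun g x => ⟨_, rfl⟩)
    (fun g x y => by rw [map_add, map_add])
    (fun g h x hx hgh => by
      obtain ⟨m, rfl⟩ := hx
      rw [coeff_sg_ne hgh, map_zero])
    (fun x => by
      obtain ⟨s, hs, hx⟩ := coind_sum x
      exact ⟨s, fun g hg => by rw [hs g hg, map_zero], hx⟩)
  gsmul := ⟨fun {g h} r x hr hx => by
    obtain ⟨m, rfl⟩ := hx
    exact ⟨r • m, (smul_sg hr h m).symm⟩⟩

variable (𝒜 M) in
/-- The sum of the coefficients, an `R`-linear map. -/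
noncomputable def coindSum : Coind 𝒜 M →ₗ[R] M where
  toFun := coindHom (fun _ => AddMonoidHom.id M)
  map_add' := map_add _
  map_smul' r x := by
    induction r using DirectSum.Decomposition.inductionOn 𝒜 with
    | zero => simp
    | add r r' hr hr' =>
      rw [add_smul, map_add, hr, hr', RingHom.id_apply, RingHom.id_apply, RingHom.id_apply, add_smul]
    | homogeneous r =>
      induction x using coind_induction with
      | h0 => simp
      | hadd x y hx hy => rw [smul_add, map_add, map_add, hx, hy, smul_add]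
      | hs g m =>
        rw [smul_sg r.2, coindHom_sg, coindHom_sg]; rfl

lemma coindSum_sg (g : ι) (m : M) : coindSum 𝒜 M (sg 𝒜 g m) = m := coindHom_sg _ _ _

/-- Auxiliary: the additive map `X → Coind M`. -/
noncomputable def coindLiftAdd (X : GMod.{u} 𝒜) (f : X.carrier →ₗ[R] M) : X.carrier →+ Coind 𝒜 M :=
  (DirectSum.toAddMonoid (fun g => (sg 𝒜 g).comp (f.toAddMonoidHom.comp (X.gr g).subtype))).comp
    (DirectSum.decomposeAddEquiv X.gr).toAddMonoidHom

lemma coindLiftAdd_of_mem (X : GMod.{u} 𝒜) (f : X.carrier →ₗ[R] M) {g : ι} {x : X.carrier}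
    (hx : x ∈ X.gr g) : coindLiftAdd X f x = sg 𝒜 g (f x) := by
  rw [coindLiftAdd, AddMonoidHom.comp_apply]
  have h1 : (DirectSum.decomposeAddEquiv X.gr).toAddMonoidHom x = DirectSum.of (fun h => X.gr h) g ⟨x, hx⟩ :=
    DirectSum.decompose_of_mem X.gr hx
  rw [h1, DirectSum.toAddMonoid_of]
  rfl

/-- Auxiliary: the linear map `X → Coind M`. -/
noncomputable def coindLiftLin (X : GMod.{u} 𝒜) (f : X.carrier →ₗ[R] M) : X.carrier →ₗ[R] Coind 𝒜 M where
  toFun := coindLiftAdd X f
  map_add' := map_add _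
  map_smul' r x := by
    induction r using DirectSum.Decomposition.inductionOn 𝒜 with
    | zero => simp
    | add r r' hr hr' => rw [add_smul, map_add, hr, hr', RingHom.id_apply, RingHom.id_apply,
            RingHom.id_apply, add_smul]
    | @homogeneous h r =>
      induction x using DirectSum.Decomposition.inductionOn X.gr with
      | zero => simp
      | add x y hx hy => rw [smul_add, map_add, map_add, hx, hy, smul_add]
      | @homogeneous g x =>
        have h1 : (r : R) • (x : X.carrier) ∈ X.gr (h + g) :=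
          SetLike.GradedSMul.smul_mem (A := 𝒜) (B := X.gr) r.2 x.2
        rw [coindLiftAdd_of_mem X f h1, coindLiftAdd_of_mem X f x.2, RingHom.id_apply, smul_sg r.2,
          map_smul]

/-- A linear map `X → M` induces a morphism `X → coindObj M`. -/
noncomputable def coindLift {X : GMod.{u} 𝒜} (f : X.carrier →ₗ[R] M) : X ⟶ coindObj 𝒜 M :=
  mk (Y := coindObj 𝒜 M) (coindLiftLin X f) (fun g x hx => ⟨f x, (coindLiftAdd_of_mem X f hx).symm⟩)

lemma lin_coindLift {X : GMod.{u} 𝒜} (f : X.carrier →ₗ[R] M) {g : ι} {x : X.carrier} (hx : x ∈ X.gr g) :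
    lin (coindLift f) x = sg 𝒜 g (f x) := coindLiftAdd_of_mem X f hx

/-- `coindSum` on the carrier of `coindObj`. -/
noncomputable def cs (𝒜 : ι → σ) [GradedRing 𝒜] (M : Type u) [AddCommGroup M] [Module R M] :
    (coindObj 𝒜 M).carrier →ₗ[R] M := coindSum 𝒜 M

lemma cs_sg (g : ι) (m : M) : cs 𝒜 M (sg 𝒜 g m) = m := coindSum_sg g m

lemma ext_hom {X : GMod.{u} 𝒜} {N : Type u} [AddCommGroup N] [Module R N] {f g : X.carrier →ₗ[R] N}
    (h : ∀ i x, x ∈ X.gr i → f x = g x) : f = g := by
  ext x
  induction x using DirectSum.Decomposition.inductionOn X.gr with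
  | zero => simp
  | add x y hx hy => rw [map_add, map_add, hx, hy]
  | homogeneous x => exact h _ _ x.2

lemma cs_comp_coindLift {X : GMod.{u} 𝒜} (f : X.carrier →ₗ[R] M) :
    cs 𝒜 M ∘ₗ lin (coindLift f) = f := by
  apply ext_hom
  intro i x hx
  rw [LinearMap.comp_apply, lin_coindLift f hx]
  exact cs_sg i (f x)

lemma coindLift_cs {X : GMod.{u} 𝒜} (f : X ⟶ coindObj 𝒜 M) :
    coindLift (cs 𝒜 M ∘ₗ lin f) = f := by
  apply hom_ext_lin
  apply ext_hom
  intro g x hx
  obtain ⟨m, hm⟩ := isGrHom f g x hx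
  have h1 : cs 𝒜 M (lin f x) = m := by
    rw [← hm]; exact cs_sg g m
  refine (lin_coindLift _ hx).trans ?_
  rw [LinearMap.comp_apply, h1, hm]

lemma injective_coindObj (I : ModuleCat.{u} R) [Injective I] : Injective (coindObj 𝒜 I) where
  factors {A B} g f _ := by
    have hm : Mono ((forgetMod 𝒜).map f) := inferInstance
    let s : (forgetMod 𝒜).obj A ⟶ I := ModuleCat.ofHom (cs 𝒜 I ∘ₗ lin g)
    let h : (forgetMod 𝒜).obj B ⟶ I := Injective.factorThru s ((forgetMod 𝒜).map f)
    have hh : (forgetMod 𝒜).map f ≫ h = s := Injective.comp_factorThru _ _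
    let h' : B.carrier →ₗ[R] I := h.hom
    have e : h' ∘ₗ lin f = cs 𝒜 I ∘ₗ lin g := by
      have := congrArg ModuleCat.Hom.hom hh
      exact this
    refine ⟨coindLift h', ?_⟩
    rw [← coindLift_cs g, ← e]
    apply hom_ext_lin
    apply ext_hom
    intro i x hx
    rw [lin_comp, LinearMap.comp_apply]
    refine (lin_coindLift h' (isGrHom f i x hx)).trans ?_
    exact (lin_coindLift (h' ∘ₗ lin f) hx).symm

lemma enoughInj_aux (X : GMod.{u} 𝒜) (I : ModuleCat.{u} R) [Injective I] (j : ModuleCat.of R X.carrier ⟶ I) [Mono j] :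
    Nonempty (InjectivePresentation X) :=
  ⟨{J := coindObj 𝒜 I
    injective := injective_coindObj _
    f := coindLift j.hom
    mono := by
      apply mono_of_injective
      intro x y hxy
      have h1 := congrArg (cs 𝒜 I) hxy
      have h2 := cs_comp_coindLift (𝒜 := 𝒜) (X := X) j.hom
      have hx := LinearMap.congr_fun h2 x
      have hy := LinearMap.congr_fun h2 y
      rw [LinearMap.comp_apply] at hx hy
      exact (ModuleCat.mono_iff_injective j).mp inferInstance (hx.symm.trans (h1.trans hy)) }⟩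

scoped instance instEnoughInjectives : EnoughInjectives (GMod.{u} 𝒜) where
  presentation X := enoughInj_aux X _ (Injective.ι (ModuleCat.of R X.carrier))

end Coind

end K963.Cat
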