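import Groth.Agent.GrLC.K963.RD

/-!
# Graded local cohomology: functoriality for homogeneous maps of any degree
-/

set_option autoImplicit false
set_option linter.unusedVariables false
set_option linter.unusedSectionVars false
universe u

open CategoryTheory CategoryTheory.Limits GrLC K963.Cat

namespace K963.Iface

variable {ι : Type} [AddCommGroup ι] [DecidableEq ι]
variable {R : Type u} [CommRing R] {σ : Type u} [SetLike σ R] [AddSubgroupClass σ R]
variable {𝒜 : ι → σ} [GradedRing 𝒜]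
variable {M : Type u} [AddCommGroup M] [Module R M] {τ : Type u} [SetLike τ M] [AddSubgroupClass τ M]
  {ℳ : ι → τ} [DirectSum.Decomposition ℳ] [SetLike.GradedSMul 𝒜 ℳ]
variable {N : Type u} [AddCommGroup N] [Module R N] {τN : Type u} [SetLike τN N] [AddSubgroupClass τN N]
  {𝒩 : ι → τN} [DirectSum.Decomposition 𝒩] [SetLike.GradedSMul 𝒜 𝒩]
variable {P : Type u} [AddCommGroup P] [Module R P] {τP : Type u} [SetLike τP P] [AddSubgroupClass τP P]
  {𝒬 : ι → τP} [DirectSum.Decomposition 𝒬] [SetLike.GradedSMul 𝒜 𝒬]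

/-! ### Shifted resolutions -/

lemma isStarInj_shift (d : ι) (X : GMod.{u} 𝒜) (hX : IsStarInj 𝒜 X.gr) : IsStarInj 𝒜 (shiftObj d X).gr := by
  intro A B f hf hinj g hg
  obtain ⟨h, hh, e⟩ := hX (shiftObj (-d) A) (shiftObj (-d) B) f (fun i x hx => hf (i + -d) x hx) hinj g
    (fun i x hx => by
      have := hg (i + -d) x hx
      have h2 : g x ∈ X.gr (i + -d + d) := this
      rw [neg_add_cancel_right] at h2
      exact h2)
  refine ⟨h, fun i x hx => ?_, e⟩
  have h1 : x ∈ (shiftObj (-d) B).gr (i + d) := by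
    change x ∈ B.gr (i + d + -d)
    rw [add_neg_cancel_right]; exact hx
  exact hh (i + d) x h1

/-- The shift of a *injective resolution. -/
noncomputable def shiftRes (F : StarInjRes 𝒜 𝒩) (d : ι) :
    StarInjRes 𝒜 (shiftObj d (toGMod 𝒜 𝒩)).gr where
  X n := shiftObj d (F.X n)
  d n := F.d n
  ε := F.ε
  d_grHom n g x hx := F.d_grHom n (g + d) x hx
  ε_grHom g x hx := F.ε_grHom (g + d) x hx
  ε_injective := F.ε_injective
  exact_zero := F.exact_zero
  exact_succ n := F.exact_succ n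
  starInj n := isStarInj_shift d (F.X n) (F.starInj n)

lemma shiftRes_cobdy (F : StarInjRes 𝒜 𝒩) (d : ι) (a : HomogeneousIdeal 𝒜) (i : ℕ) (x : (F.X i).carrier) :
    x ∈ (shiftRes F d).cobdy a i ↔ x ∈ F.cobdy a i := by
  cases i <;> exact Iff.rfl

/-- The identity map from the cohomology of the shifted resolution. -/
noncomputable def unshift (F : StarInjRes 𝒜 𝒩) (d : ι) (a : HomogeneousIdeal 𝒜) (i : ℕ) :
    (shiftRes F d).H a i →ₗ[R] F.H a i :=
  Submodule.liftQ _ (F.toH a i : ((shiftRes F d).cocyc a i) →ₗ[R] F.H a i) (fun x hx =>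
    (Submodule.Quotient.mk_eq_zero _).mpr ((shiftRes_cobdy F d a i x.1).mp hx))

lemma unshift_toH (F : StarInjRes 𝒜 𝒩) (d : ι) (a : HomogeneousIdeal 𝒜) (i : ℕ) (z : F.cocyc a i) :
    unshift F d a i ((shiftRes F d).toH a i z) = F.toH a i z := rfl

lemma unshift_bijective (F : StarInjRes 𝒜 𝒩) (d : ι) (a : HomogeneousIdeal 𝒜) (i : ℕ) :
    Function.Bijective (unshift F d a i) := by
  constructor
  · rw [injective_iff_map_eq_zero]
    intro x hx
    obtain ⟨z, rfl⟩ := Submodule.mkQ_surjective _ x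
    have hx' : F.toH a i z = 0 := hx
    have hx2 : z ∈ LinearMap.ker (F.toH a i) := hx'
    rw [Submodule.ker_mkQ] at hx2
    exact (Submodule.Quotient.mk_eq_zero _).mpr ((shiftRes_cobdy F d a i z.1).mpr hx2)
  · intro y
    obtain ⟨z, rfl⟩ := Submodule.mkQ_surjective _ y
    exact ⟨(shiftRes F d).toH a i z, rfl⟩

lemma unshift_mem_iff (F : StarInjRes 𝒜 𝒩) (d : ι) (a : HomogeneousIdeal 𝒜) (i : ℕ) (g : ι)
    (x : (shiftRes F d).H a i) :
    unshift F d a i x ∈ F.Hcomp a i (g + d) ↔ x ∈ (shiftRes F d).Hcomp a i g := by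
  constructor
  · rintro ⟨z, hz, e⟩
    exact ⟨z, hz, (unshift_bijective F d a i).1 e⟩
  · rintro ⟨z, hz, rfl⟩
    exact ⟨z, hz, rfl⟩

/-! ### Lifts -/

/-- A lift to *injective resolutions of a map `f : M → N` homogeneous of degree `d`. -/
structure Lift (E : StarInjRes 𝒜 ℳ) (F : StarInjRes 𝒜 𝒩) (f : M →ₗ[R] N) (d : ι) : Type u where
  /-- the maps -/
  φ : ∀ n, (E.X n).carrier →ₗ[R] (F.X n).carrier
  gr : ∀ n, IsGrHomDeg (E.X n).gr (F.X n).gr (φ n) d
  comm_ε : ∀ x, φ 0 (E.ε x) = F.ε (f x)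
  comm_d : ∀ n x, φ (n + 1) (E.d n x) = F.d n (φ n x)

variable (𝒜 ℳ) in
/-- Existence of *injective resolutions (no Noetherian hypothesis). -/
theorem nonempty_res : Nonempty (StarInjRes 𝒜 ℳ) := Cat.nonempty_starInjRes 𝒜 ℳ

lemma nonempty_lift₀ (E : StarInjRes 𝒜 ℳ) (F : StarInjRes 𝒜 𝒩) (f : toGMod 𝒜 ℳ ⟶ toGMod 𝒜 𝒩) :
    ∃ φ : ∀ n, E.X n ⟶ F.X n, (∀ n, φ n ≫ resD F n = resD E n ≫ φ (n + 1)) ∧
      resε E ≫ φ 0 = f ≫ resε F := by
  let Φ : resCx E ⟶ resCx F := InjectiveResolution.desc f (resOf F) (resOf E)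
  refine ⟨fun n => Φ.f n, fun n => ?_, ?_⟩
  · have := Φ.comm n (n + 1)
    rw [resCx_d, resCx_d] at this
    exact this
  · have := InjectiveResolution.desc_commutes_zero f (resOf F) (resOf E)
    have e1 : (resOf E).ι.f 0 = resε E := resι_f_zero E
    have e2 : (resOf F).ι.f 0 = resε F := resι_f_zero F
    refine (congrArg (fun t => t ≫ Φ.f 0) e1).symm.trans (this.trans ?_)
    exact congrArg (fun t => f ≫ t) e2

/-- A homogeneous map of degree `d` as a morphism to the shift. -/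
noncomputable def toShift (f : M →ₗ[R] N) {d : ι} (hf : IsGrHomDeg ℳ 𝒩 f d) :
    toGMod 𝒜 ℳ ⟶ toGMod 𝒜 (shiftObj d (toGMod 𝒜 𝒩)).gr :=
  mk (X := toGMod 𝒜 ℳ) (Y := toGMod 𝒜 (shiftObj d (toGMod 𝒜 𝒩)).gr) f (fun g x hx => hf g x hx)

theorem nonempty_lift (E : StarInjRes 𝒜 ℳ) (F : StarInjRes 𝒜 𝒩) (f : M →ₗ[R] N) {d : ι}
    (hf : IsGrHomDeg ℳ 𝒩 f d) : Nonempty (Lift E F f d) := by
  obtain ⟨φ, h1, h2⟩ := nonempty_lift₀ E (shiftRes F d) (toShift f hf)
  exact ⟨{
    φ := fun n => lin (X := E.X n) (Y := (shiftRes F d).X n) (φ n)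
    gr := fun n g x hx => isGrHom (φ n) g x hx
    comm_ε := fun x => congrArg (fun t => lin t x) h2
    comm_d := fun n x => (congrArg (fun t => lin t x) (h1 n)).symm }⟩

/-- The map induced on graded local cohomology by a homogeneous map of any degree. -/
noncomputable def Hmap (E : StarInjRes 𝒜 ℳ) (F : StarInjRes 𝒜 𝒩) (a : HomogeneousIdeal 𝒜) (i : ℕ)
    (f : M →ₗ[R] N) {d : ι} (hf : IsGrHomDeg ℳ 𝒩 f d) : E.H a i →ₗ[R] F.H a i :=
  unshift F d a i ∘ₗ lin (HmapG E (shiftRes F d) a i (toShift f hf))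

section
variable (E : StarInjRes 𝒜 ℳ) (F : StarInjRes 𝒜 𝒩) (G : StarInjRes 𝒜 𝒬) (a : HomogeneousIdeal 𝒜) (i : ℕ)

theorem Lift.mem_cocyc {f : M →ₗ[R] N} {d : ι} (L : Lift E F f d) (z : E.cocyc a i) :
    L.φ i z ∈ F.cocyc a i := by
  refine ⟨mem_gam_map _ z.2.1, LinearMap.mem_ker.mpr ?_⟩
  have h : E.d i z = 0 := z.2.2
  rw [← L.comm_d, h, map_zero]

/-- `Hmap` is computed by any lift. -/
theorem Hmap_toH {f : M →ₗ[R] N} {d : ι} (L : Lift E F f d) (hf : IsGrHomDeg ℳ 𝒩 f d)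
    (z : E.cocyc a i) :
    Hmap E F a i f hf (E.toH a i z) = F.toH a i ⟨L.φ i z, L.mem_cocyc E F a i z⟩ := by
  have h1 := HmapG_toH a i (toShift f hf)
    (fun n => (mk (X := E.X n) (Y := (shiftRes F d).X n) (L.φ n) (fun g x hx => L.gr n g x hx)))
    (fun n => hom_ext fun x => (L.comm_d n x).symm) (hom_ext fun x => L.comm_ε x) z
    ⟨L.φ i z, L.mem_cocyc E F a i z⟩ rfl
  exact congrArg (unshift F d a i) h1

theorem Hmap_mem {f : M →ₗ[R] N} {d : ι} (hf : IsGrHomDeg ℳ 𝒩 f d) {g : ι} {x : E.H a i}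
    (hx : x ∈ E.Hcomp a i g) : Hmap E F a i f hf x ∈ F.Hcomp a i (g + d) := by
  obtain ⟨z, hz, rfl⟩ := hx
  obtain ⟨L⟩ := nonempty_lift E F f hf
  exact ⟨⟨L.φ i z, L.mem_cocyc E F a i z⟩, L.gr i g z hz, (Hmap_toH E F a i L hf z).symm⟩

theorem Hmap_id (h : IsGrHomDeg ℳ ℳ (LinearMap.id : M →ₗ[R] M) 0) (x : E.H a i) :
    Hmap E E a i LinearMap.id h x = x := by
  obtain ⟨z, rfl⟩ := Submodule.mkQ_surjective _ x
  exact Hmap_toH E E a i (f := LinearMap.id) (d := 0)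
    { φ := fun n => LinearMap.id
      gr := fun n g x hx => by rw [add_zero]; exact hx
      comm_ε := fun x => rfl
      comm_d := fun n x => rfl } h z

theorem Hmap_congr {f : M →ₗ[R] N} {f' : M →ₗ[R] N} {d d' : ι} (hf : IsGrHomDeg ℳ 𝒩 f d)
    (hf' : IsGrHomDeg ℳ 𝒩 f' d') (h : f = f') (hd : d = d') : Hmap E F a i f hf = Hmap E F a i f' hf' := by
  subst h; subst hd; rfl

theorem Hmap_comp {f : M →ₗ[R] N} {g : N →ₗ[R] P} {d d' : ι} (hf : IsGrHomDeg ℳ 𝒩 f d)
    (hg : IsGrHomDeg 𝒩 𝒬 g d') (h : IsGrHomDeg ℳ 𝒬 (g ∘ₗ f) (d + d')) (x : E.H a i) :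
    Hmap E G a i (g ∘ₗ f) h x = Hmap F G a i g hg (Hmap E F a i f hf x) := by
  obtain ⟨z, rfl⟩ := Submodule.mkQ_surjective _ x
  obtain ⟨L⟩ := nonempty_lift E F f hf
  obtain ⟨L'⟩ := nonempty_lift F G g hg
  have h1 := Hmap_toH E F a i L hf z
  have h2 := Hmap_toH F G a i L' hg ⟨L.φ i z, L.mem_cocyc E F a i z⟩
  have h3 := Hmap_toH E G a i (f := g ∘ₗ f) (d := d + d')
    { φ := fun n => L'.φ n ∘ₗ L.φ n
      gr := fun n k x hx => by
        rw [← add_assoc]; exact L'.gr n _ _ (L.gr n k x hx)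
      comm_ε := fun x => by
        rw [LinearMap.comp_apply, L.comm_ε, L'.comm_ε, LinearMap.comp_apply]
      comm_d := fun n x => by
        rw [LinearMap.comp_apply, L.comm_d, L'.comm_d, LinearMap.comp_apply] } h z
  refine h3.trans ?_
  refine Eq.trans ?_ (congrArg (Hmap F G a i g hg) h1).symm
  exact h2.symm

theorem Hmap_add {f f' : M →ₗ[R] N} {d : ι} (hf : IsGrHomDeg ℳ 𝒩 f d) (hf' : IsGrHomDeg ℳ 𝒩 f' d)
    (h : IsGrHomDeg ℳ 𝒩 (f + f') d) (x : E.H a i) :
    Hmap E F a i (f + f') h x = Hmap E F a i f hf x + Hmap E F a i f' hf' x := by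
  obtain ⟨z, rfl⟩ := Submodule.mkQ_surjective _ x
  obtain ⟨L⟩ := nonempty_lift E F f hf
  obtain ⟨L'⟩ := nonempty_lift E F f' hf'
  have h1 := Hmap_toH E F a i L hf z
  have h2 := Hmap_toH E F a i L' hf' z
  have h3 := Hmap_toH E F a i (f := f + f') (d := d)
    { φ := fun n => L.φ n + L'.φ n
      gr := fun n k x hx => add_mem (L.gr n k x hx) (L'.gr n k x hx)
      comm_ε := fun x => by
        rw [LinearMap.add_apply, L.comm_ε, L'.comm_ε, LinearMap.add_apply, map_add]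
      comm_d := fun n x => by
        rw [LinearMap.add_apply, L.comm_d, L'.comm_d, LinearMap.add_apply, map_add] } h z
  refine h3.trans ?_
  refine Eq.trans ?_ (congrArg₂ (· + ·) h1 h2).symm
  rfl

/-- Multiplication by a homogeneous element `r` of degree `d` induces multiplication by `r`. -/
theorem Hmap_smul_id {r : R} {d : ι} (hr : r ∈ 𝒜 d)
    (h : IsGrHomDeg ℳ ℳ (r • (LinearMap.id : M →ₗ[R] M)) d)
    (x : E.H a i) : Hmap E E a i (r • LinearMap.id) h x = r • x := by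
  obtain ⟨z, rfl⟩ := Submodule.mkQ_surjective _ x
  exact Hmap_toH E E a i (f := r • LinearMap.id) (d := d)
    { φ := fun n => r • LinearMap.id
      gr := fun n g x hx => by
        have := SetLike.GradedSMul.smul_mem (A := 𝒜) (B := (E.X n).gr) hr hx
        rw [vadd_eq_add, add_comm] at this
        exact this
      comm_ε := fun x => by
        rw [LinearMap.smul_apply, LinearMap.smul_apply, LinearMap.id_apply, LinearMap.id_apply, map_smul]
      comm_d := fun n x => by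
        rw [LinearMap.smul_apply, LinearMap.smul_apply, LinearMap.id_apply, LinearMap.id_apply, map_smul] }
    h z

theorem isGrHomDeg_smul_id {r : R} {d : ι} (hr : r ∈ 𝒜 d) :
    IsGrHomDeg ℳ ℳ (r • (LinearMap.id : M →ₗ[R] M)) d := by
  intro g x hx
  have := SetLike.GradedSMul.smul_mem (A := 𝒜) (B := ℳ) hr hx
  rw [vadd_eq_add, add_comm] at this
  exact this

omit E F G a i [SetLike.GradedSMul 𝒜 ℳ] [SetLike.GradedSMul 𝒜 𝒩] [SetLike.GradedSMul 𝒜 𝒬]
  [GradedRing 𝒜] in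
theorem map_proj_deg (f : M →ₗ[R] N) {d : ι} (hf : IsGrHomDeg ℳ 𝒩 f d) (g : ι) (x : M) :
    f (Dec.proj ℳ g x) = Dec.proj 𝒩 (g + d) (f x) := by
  obtain ⟨s, hs, hx⟩ := Dec.sum_proj ℳ x
  conv_rhs => rw [hx]
  rw [map_sum, map_sum]
  by_cases hg : g ∈ s
  · rw [Finset.sum_eq_single g]
    · exact (Dec.proj_of_mem 𝒩 (hf g _ (Dec.proj_mem ℳ g x))).symm
    · intro h _ hh
      exact Dec.proj_of_mem_ne 𝒩 (hf h _ (Dec.proj_mem ℳ h x)) (fun e => hh (add_right_cancel e))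
    · intro h; exact absurd hg h
  · rw [Finset.sum_eq_zero, hs g hg, map_zero]
    intro h hh
    exact Dec.proj_of_mem_ne 𝒩 (hf h _ (Dec.proj_mem ℳ h x)) (fun e => hg (add_right_cancel e ▸ hh))

omit E F G a i [SetLike.GradedSMul 𝒜 ℳ] [SetLike.GradedSMul 𝒜 𝒩] [SetLike.GradedSMul 𝒜 𝒬]
  [GradedRing 𝒜] in
theorem isGrHomDeg_symm (e : M ≃ₗ[R] N) {d : ι} (he : IsGrHomDeg ℳ 𝒩 e.toLinearMap d) :
    IsGrHomDeg 𝒩 ℳ e.symm.toLinearMap (-d) := by
  intro g y hy
  refine Dec.mem_of_proj_eq_zero ℳ fun h hh => ?_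
  have h1 := map_proj_deg e.toLinearMap he h (e.symm y)
  have h2 : e.toLinearMap (e.symm y) = y := e.apply_symm_apply y
  rw [h2, Dec.proj_of_mem_ne 𝒩 hy (fun e => hh (by rw [e, add_neg_cancel_right]))] at h1
  apply e.injective
  rw [map_zero]
  exact h1

omit E F G a i [SetLike.GradedSMul 𝒜 ℳ] [SetLike.GradedSMul 𝒜 𝒩] [SetLike.GradedSMul 𝒜 𝒬]
  [GradedRing 𝒜] in
theorem isGrHomDeg_id : IsGrHomDeg ℳ ℳ (LinearMap.id : M →ₗ[R] M) 0 := fun g x hx => by
  rw [add_zero]; exact hx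

/-- A homogeneous isomorphism induces isomorphisms on graded local cohomology, for any resolutions. -/
noncomputable def Hequiv (e : M ≃ₗ[R] N) {d : ι} (he : IsGrHomDeg ℳ 𝒩 e.toLinearMap d) :
    E.H a i ≃ₗ[R] F.H a i :=
  LinearEquiv.ofLinearMap (Hmap E F a i e.toLinearMap he)
    (Hmap F E a i e.symm.toLinearMap (isGrHomDeg_symm e he))
    (by
      refine LinearMap.ext fun x => ?_
      have h0 : IsGrHomDeg 𝒩 𝒩 (e.toLinearMap ∘ₗ e.symm.toLinearMap) (-d + d) := by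
        intro g y hy
        rw [neg_add_cancel, add_zero, LinearMap.comp_apply]
        exact (e.apply_symm_apply y).symm ▸ hy
      have h1 := Hmap_comp F E F a i (isGrHomDeg_symm e he) he h0 x
      rw [LinearMap.comp_apply, ← h1,
        Hmap_congr F F a i h0 (f' := LinearMap.id) (d' := 0) isGrHomDeg_id
          (by ext y; exact e.apply_symm_apply y) (neg_add_cancel d)]
      exact Hmap_id F a i isGrHomDeg_id x)
    (by
      refine LinearMap.ext fun x => ?_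
      have h0 : IsGrHomDeg ℳ ℳ (e.symm.toLinearMap ∘ₗ e.toLinearMap) (d + -d) := by
        intro g y hy
        rw [add_neg_cancel, add_zero, LinearMap.comp_apply]
        exact (e.symm_apply_apply y).symm ▸ hy
      have h1 := Hmap_comp E F E a i he (isGrHomDeg_symm e he) h0 x
      rw [LinearMap.comp_apply, ← h1,
        Hmap_congr E E a i h0 (f' := LinearMap.id) (d' := 0) isGrHomDeg_id
          (by ext y; exact e.symm_apply_apply y) (add_neg_cancel d)]
      exact Hmap_id E a i isGrHomDeg_id x)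

theorem Hequiv_apply (e : M ≃ₗ[R] N) {d : ι} (he : IsGrHomDeg ℳ 𝒩 e.toLinearMap d) (x : E.H a i) :
    Hequiv E F a i e he x = Hmap E F a i e.toLinearMap he x := rfl

theorem Hequiv_mem_iff (e : M ≃ₗ[R] N) {d : ι} (he : IsGrHomDeg ℳ 𝒩 e.toLinearMap d) {g : ι}
    (x : E.H a i) : Hequiv E F a i e he x ∈ F.Hcomp a i (g + d) ↔ x ∈ E.Hcomp a i g := by
  constructor
  · intro h
    have h1 := Hmap_mem F E a i (isGrHomDeg_symm e he) h
    rw [add_neg_cancel_right] at h1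
    have h2 : Hmap F E a i e.symm.toLinearMap (isGrHomDeg_symm e he) (Hequiv E F a i e he x) = x :=
      (Hequiv E F a i e he).symm_apply_apply x
    rw [h2] at h1
    exact h1
  · exact Hmap_mem E F a i he

end

end K963.Iface
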