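import Groth.Agent.GrLC.K963.Van
import Mathlib.Algebra.Module.LocalizedModule.Basic
import Mathlib.RingTheory.Ideal.Maps
import Mathlib.RingTheory.Finiteness.Ideal

/-!
# Graded localization at a homogeneous element, and Čech-type resolutions
-/

set_option autoImplicit false
set_option linter.unusedVariables false
set_option linter.unusedSectionVars false
universe u

open CategoryTheory CategoryTheory.Limits GrLC K963.Cat

namespace K963.Loc

variable {ι : Type} [AddCommGroup ι] [DecidableEq ι]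
variable {R : Type u} [CommRing R] {σ : Type u} [SetLike σ R] [AddSubgroupClass σ R]
variable {𝒜 : ι → σ} [GradedRing 𝒜]

section Co

variable {L : Type u} [AddCommGroup L] [Module R L] {x : R} {d : ι} (hx : x ∈ 𝒜 d)

include hx in
lemma coeff_smul (g : ι) (l : Coind 𝒜 L) : coeff (d + g) (x • l) = x • coeff g l := by
  induction l using coind_induction with
  | h0 => simp
  | hadd y z hy hz => rw [smul_add, map_add, map_add, hy, hz, smul_add]
  | hs h m =>
    rw [smul_sg hx]
    by_cases hgh : h = g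
    · subst hgh
      rw [coeff_sg_same, coeff_sg_same]
    · rw [coeff_sg_ne hgh, coeff_sg_ne (fun e => hgh (add_left_cancel e)), smul_zero]

include hx in
lemma co_bijective (hL : Function.Bijective (fun l : L => x • l)) :
    Function.Bijective (fun l : Coind 𝒜 L => x • l) := by
  constructor
  · intro l l' h
    apply coind_ext
    intro g
    apply hL.1
    have h1 : coeff (d + g) (x • l) = coeff (d + g) (x • l') := congrArg _ h
    rw [coeff_smul hx, coeff_smul hx] at h1
    exact h1
  · intro l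
    induction l using coind_induction with
    | h0 => exact ⟨0, smul_zero x⟩
    | hadd y z hy hz =>
      obtain ⟨y', hy⟩ := hy
      obtain ⟨z', hz⟩ := hz
      exact ⟨y' + z', (smul_add x y' z').trans (congrArg₂ (· + ·) hy hz)⟩
    | hs g m =>
      obtain ⟨m', hm⟩ := hL.2 m
      refine ⟨sg 𝒜 (g - d) m', ?_⟩
      have h1 : x • sg 𝒜 (g - d) m' = sg 𝒜 (d + (g - d)) (x • m') := smul_sg hx _ _
      refine h1.trans ?_
      rw [add_sub_cancel]
      exact congrArg (sg 𝒜 g) hm

end Co

section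

variable (X : GMod.{u} 𝒜) (x : R)

lemma loc_bijective : Function.Bijective
    (fun l : LocalizedModule (Submonoid.powers x) X.carrier => x • l) := by
  have h := IsLocalizedModule.map_units (LocalizedModule.mkLinearMap (Submonoid.powers x) X.carrier)
    ⟨x, Submonoid.mem_powers x⟩
  rw [Module.End.isUnit_iff] at h
  exact h

/-- The canonical map to the coinduced module of the localization. -/
noncomputable def toCo : X ⟶ coindObj 𝒜 (LocalizedModule (Submonoid.powers x) X.carrier) :=
  coindLift (LocalizedModule.mkLinearMap (Submonoid.powers x) X.carrier)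

lemma toCo_eq_zero {m : X.carrier} (h : lin (toCo X x) m = 0) : ∃ n : ℕ, x ^ n • m = 0 := by
  have h1 : LocalizedModule.mkLinearMap (Submonoid.powers x) X.carrier m = 0 := by
    have h2 := LinearMap.congr_fun (cs_comp_coindLift
      (LocalizedModule.mkLinearMap (Submonoid.powers x) X.carrier)) m
    rw [← h2]
    refine (congrArg (cs 𝒜 _) h).trans (map_zero _)
  rw [IsLocalizedModule.eq_zero_iff (Submonoid.powers x)] at h1
  obtain ⟨⟨c, n, hn⟩, hc⟩ := h1
  refine ⟨n, ?_⟩
  have hn' : x ^ n = c := hn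
  rw [hn']
  exact hc

/-- The fractions with denominator a power of `x`. -/
noncomputable def locSub : Submodule R (coindObj 𝒜 (LocalizedModule (Submonoid.powers x) X.carrier)).carrier where
  carrier := {l | ∃ n : ℕ, x ^ n • l ∈ LinearMap.range (lin (toCo X x))}
  add_mem' := by
    rintro a b ⟨n, hn⟩ ⟨m, hm⟩
    refine ⟨n + m, ?_⟩
    rw [smul_add]
    refine add_mem ?_ ?_
    · rw [add_comm, pow_add, mul_smul]
      exact Submodule.smul_mem _ _ hn
    · rw [pow_add, mul_smul]
      exact Submodule.smul_mem _ _ hm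
  zero_mem' := ⟨0, by rw [smul_zero]; exact zero_mem _⟩
  smul_mem' := by
    rintro r a ⟨n, hn⟩
    refine ⟨n, ?_⟩
    rw [smul_comm]
    exact Submodule.smul_mem _ _ hn

variable {x}

lemma pow_mem_gr {d : ι} (hx : x ∈ 𝒜 d) (n : ℕ) : ∃ e, x ^ n ∈ 𝒜 e := ⟨n • d, SetLike.pow_mem_graded n hx⟩

lemma locSub_isHomogeneous {d : ι} (hx : x ∈ 𝒜 d) : (locSub X x).IsHomogeneous
    (coindObj 𝒜 (LocalizedModule (Submonoid.powers x) X.carrier)).gr := by
  intro g l hl
  obtain ⟨n, hn⟩ := hl
  refine ⟨n, ?_⟩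
  obtain ⟨e, he⟩ := pow_mem_gr hx n
  have h1 := smul_proj_of_mem (coindObj 𝒜 (LocalizedModule (Submonoid.powers x) X.carrier)) he g l
  change x ^ n • Dec.proj (coindObj 𝒜 (LocalizedModule (Submonoid.powers x) X.carrier)).gr g l ∈ _
  rw [h1]
  exact isHomogeneous_range (toCo X x) _ hn

/-- The graded localization `X_x`. -/
noncomputable def locObj {d : ι} (hx : x ∈ 𝒜 d) : GMod.{u} 𝒜 :=
  subObj (coindObj 𝒜 (LocalizedModule (Submonoid.powers x) X.carrier)) (locSub X x)
    (locSub_isHomogeneous X hx)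

/-- The localization map. -/
noncomputable def toLoc {d : ι} (hx : x ∈ 𝒜 d) : X ⟶ locObj X hx :=
  subLift _ _ (toCo X x) (fun m => ⟨0, by rw [pow_zero, one_smul]; exact ⟨m, rfl⟩⟩)

variable {d : ι} (hx : x ∈ 𝒜 d)

include hx in
lemma co_bijective' : Function.Bijective (fun l :
    (coindObj 𝒜 (LocalizedModule (Submonoid.powers x) X.carrier)).carrier => x • l) :=
  co_bijective hx (loc_bijective X x)

lemma locObj_bijective : Function.Bijective (fun l : (locObj X hx).carrier => x • l) := by
  constructor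
  · intro l l' h
    apply Subtype.ext
    apply (co_bijective' X hx).1
    exact congrArg Subtype.val h
  · rintro ⟨l, n, hl⟩
    obtain ⟨l', hl'⟩ := (co_bijective' X hx).2 l
    have hl'' : x • l' = l := hl'
    refine ⟨⟨l', n + 1, ?_⟩, Subtype.ext hl'⟩
    rw [pow_succ, mul_smul, hl'']
    exact hl

lemma toLoc_eq_zero_iff (m : X.carrier) : lin (toLoc X hx) m = 0 ↔ ∃ n : ℕ, x ^ n • m = 0 := by
  constructor
  · intro h
    have h1 : lin (toCo X x) m = 0 := congrArg Subtype.val h
    exact toCo_eq_zero X x h1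
  · rintro ⟨n, hn⟩
    have hp : ∀ (n : ℕ) (l : (locObj X hx).carrier), x ^ n • l = 0 → l = 0 := by
      intro n
      induction n with
      | zero => intro l hl; rwa [pow_zero, one_smul] at hl
      | succ n ih =>
        intro l hl
        rw [pow_succ', mul_smul] at hl
        apply ih l
        apply (locObj_bijective X hx).1
        exact hl.trans (smul_zero x).symm
    apply hp n
    rw [← map_smul, hn, map_zero]

lemma toLoc_surj (l : (locObj X hx).carrier) : ∃ (n : ℕ) (m : X.carrier), x ^ n • l = lin (toLoc X hx) m := by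
  obtain ⟨l, n, m, hm⟩ := l
  exact ⟨n, m, Subtype.ext hm.symm⟩

end

/-! ### Covers -/

section Cover

/-- A map to a `Good` module whose kernel is the torsion. -/
theorem exists_cover (l : List R) (hl : ∀ x ∈ l, ∃ d, x ∈ 𝒜 d) (X : GMod.{u} 𝒜) :
    ∃ (K : GMod.{u} 𝒜) (f : X ⟶ K), Iface.Good {x | x ∈ l} K ∧
      ∀ m, lin f m = 0 → ∀ x ∈ l, ∃ n : ℕ, x ^ n • m = 0 := by
  induction l with
  | nil =>
    exact ⟨Cat.zeroObj 𝒜, 0, Iface.Good.zero _ (show Subsingleton PUnit from inferInstance),
      fun m _ x hx => by simp at hx⟩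
  | cons x l ih =>
    obtain ⟨K, f, hK, hf⟩ := ih (fun y hy => hl y (List.mem_cons_of_mem _ hy))
    obtain ⟨d, hd⟩ := hl x List.mem_cons_self
    refine ⟨prodObj (locObj X hd) K, mk (Y := prodObj (locObj X hd) K)
      (LinearMap.prod (lin (toLoc X hd)) (lin f)) (fun g m hm =>
        ⟨isGrHom (toLoc X hd) g m hm, isGrHom f g m hm⟩), ?_, ?_⟩
    · refine Iface.Good.prod (Iface.Good.bij _ x List.mem_cons_self (locObj_bijective X hd)) ?_
      exact hK.mono (fun y hy => List.mem_cons_of_mem _ hy)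
    · intro m hm y hy
      have h1 : (lin (toLoc X hd) m, lin f m) = (0 : (locObj X hd).carrier × K.carrier) := hm
      rcases List.mem_cons.mp hy with rfl | hy
      · exact (toLoc_eq_zero_iff X hd m).mp (congrArg Prod.fst h1)
      · exact hf m (congrArg Prod.snd h1) y hy

variable (l : List R) (hl : ∀ x ∈ l, ∃ d, x ∈ 𝒜 d) (X : GMod.{u} 𝒜)

/-- The chosen cover. -/
noncomputable def cover : GMod.{u} 𝒜 := (exists_cover l hl X).choose
/-- The map to the chosen cover. -/
noncomputable def toCover : X ⟶ cover l hl X := (exists_cover l hl X).choose_spec.choose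
lemma cover_good : Iface.Good {x | x ∈ l} (cover l hl X) := (exists_cover l hl X).choose_spec.choose_spec.1
lemma toCover_eq_zero {m : X.carrier} (h : lin (toCover l hl X) m = 0) : ∀ x ∈ l, ∃ n : ℕ, x ^ n • m = 0 :=
  (exists_cover l hl X).choose_spec.choose_spec.2 m h

/-- The successive cokernels. -/
noncomputable def cechQ : ℕ → GMod.{u} 𝒜
  | 0 => X
  | n + 1 => cokerObj (toCover l hl (cechQ n))

/-- The terms of a Čech-type complex. -/
noncomputable def cechK : ℕ → GMod.{u} 𝒜
  | 0 => X
  | n + 1 => cover l hl (cechQ l hl X n)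

/-- The projection. -/
noncomputable def cechπ : ∀ n, cechK l hl X n ⟶ cechQ l hl X n
  | 0 => 𝟙 X
  | n + 1 => cokerπ (toCover l hl (cechQ l hl X n))

lemma cechπ_surjective (n : ℕ) : Function.Surjective (lin (cechπ l hl X n)) := by
  cases n with
  | zero => intro x; exact ⟨x, rfl⟩
  | succ n => exact surjective_of_epi (cokerπ (toCover l hl (cechQ l hl X n)))

/-- The differential. -/
noncomputable def cechD (n : ℕ) : cechK l hl X n ⟶ cechK l hl X (n + 1) :=
  cechπ l hl X n ≫ toCover l hl (cechQ l hl X n)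

lemma cechD_comp (n : ℕ) : cechD l hl X n ≫ cechD l hl X (n + 1) = 0 := by
  refine hom_ext fun x => ?_
  have h : lin (toCover l hl (cechQ l hl X n) ≫ cechπ l hl X (n + 1)) (lin (cechπ l hl X n) x) = 0 :=
    congrArg (fun t => lin t (lin (cechπ l hl X n) x)) (comp_cokerπ (toCover l hl (cechQ l hl X n)))
  exact (congrArg (lin (toCover l hl (cechQ l hl X (n + 1)))) h).trans (map_zero _)

lemma cech_zero {m : X.carrier} (h : lin (cechD l hl X 0) m = 0) : ∀ x ∈ l, ∃ n : ℕ, x ^ n • m = 0 :=
  toCover_eq_zero l hl X h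

lemma cech_torsion (n : ℕ) {m : (cechK l hl X (n + 1)).carrier} (h : lin (cechD l hl X (n + 1)) m = 0) :
    ∀ x ∈ l, ∃ N : ℕ, x ^ N • m ∈ LinearMap.range (lin (cechD l hl X n)) := by
  intro x hx
  obtain ⟨N, hN⟩ := toCover_eq_zero l hl (cechQ l hl X (n + 1)) (m := lin (cechπ l hl X (n + 1)) m) h x hx
  refine ⟨N, ?_⟩
  rw [← map_smul] at hN
  obtain ⟨q, hq⟩ := (Submodule.Quotient.mk_eq_zero _).mp hN
  obtain ⟨k, hk⟩ := cechπ_surjective l hl X n q
  refine ⟨k, ?_⟩
  refine Eq.trans ?_ hq
  exact congrArg (lin (toCover l hl (cechQ l hl X n))) hk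

lemma cechK_good (n : ℕ) : Iface.Good {x | x ∈ l} (cechK l hl X (n + 1)) := cover_good l hl _

end Cover

/-! ### Torsion -/

section Tors

variable {M : Type u} [AddCommGroup M] [Module R M]

/-- Passing from the generators to the ideal. -/
lemma exists_pow_smul_mem [IsNoetherianRing R] (a : Ideal R) (l : List R) (P : Submodule R M) (k : M)
    (h : ∀ x ∈ l, ∃ N : ℕ, x ^ N • k ∈ P)
    (ha : a ≤ (Ideal.span {x | x ∈ l} ⊔ (Submodule.span R {k}).annihilator).radical) :
    ∃ n : ℕ, ∀ r ∈ a ^ n, r • k ∈ P := by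
  let J : Ideal R := (P.comap (LinearMap.toSpanSingleton R M k))
  have hJ : ∀ r, r ∈ J ↔ r • k ∈ P := fun r => Iff.rfl
  have h1 : a ≤ J.radical := by
    refine ha.trans ?_
    rw [← Ideal.radical_idem J]
    refine Ideal.radical_mono (sup_le (Ideal.span_le.mpr fun x hx => ?_) fun r hr => ?_)
    · obtain ⟨N, hN⟩ := h x hx
      exact ⟨N, hN⟩
    · refine Ideal.le_radical ?_
      rw [hJ]
      rw [Submodule.mem_annihilator_span_singleton] at hr
      rw [hr]; exact zero_mem _
  obtain ⟨n, hn⟩ := Ideal.exists_pow_le_of_le_radical_of_fg h1 (IsNoetherian.noetherian a)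
  exact ⟨n, fun r hr => hn hr⟩

end Tors

/-! ### Comparison for the Čech-type complex -/

section Compare

variable [IsNoetherianRing R] (a : HomogeneousIdeal 𝒜) (l : List R) (hl : ∀ x ∈ l, ∃ d, x ∈ 𝒜 d)
  (hla : ∀ x ∈ l, x ∈ a.toIdeal) (ha : a.toIdeal ≤ (Ideal.span {x | x ∈ l}).radical)

include ha in
lemma exists_pow_smul_mem' {M : Type u} [AddCommGroup M] [Module R M] (P : Submodule R M) (k : M)
    (h : ∀ x ∈ l, ∃ N : ℕ, x ^ N • k ∈ P) : ∃ n : ℕ, ∀ r ∈ a.toIdeal ^ n, r • k ∈ P :=
  exists_pow_smul_mem a.toIdeal l P k h (ha.trans (Ideal.radical_mono le_sup_left))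

include hla in
lemma cechK_hv (X : GMod.{u} 𝒜) (n : ℕ) : Iface.HV a (cechK l hl X (n + 1)) :=
  (cechK_good l hl X n).hv fun x hx => ⟨hla x hx, hl x hx⟩

include hla ha in
/-- The Čech-type complex computes graded local cohomology. -/
theorem cech_comparison (X : GMod.{u} 𝒜) (E : StarInjRes 𝒜 X.gr) :
    (∃ φ : LinearMap.ker (lin (cechD l hl X 0)) ≃ₗ[R] E.H a 0,
      ∀ (x : LinearMap.ker (lin (cechD l hl X 0))) g,
        φ x ∈ E.Hcomp a 0 g ↔ (x : (cechK l hl X 0).carrier) ∈ (cechK l hl X 0).gr g) ∧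
    ∀ q, ∃ φ : LinearMap.ker (lin (cechD l hl X (q + 1))) →ₗ[R] E.H a (q + 1), Function.Surjective φ ∧
      LinearMap.ker φ = (LinearMap.range (lin (cechD l hl X q))).comap
        (LinearMap.ker (lin (cechD l hl X (q + 1)))).subtype ∧
      (∀ (x : LinearMap.ker (lin (cechD l hl X (q + 1)))) g,
        (x : (cechK l hl X (q + 1)).carrier) ∈ (cechK l hl X (q + 1)).gr g → φ x ∈ E.Hcomp a (q + 1) g) ∧
      (∀ g, ∀ y ∈ E.Hcomp a (q + 1) g, ∃ x : LinearMap.ker (lin (cechD l hl X (q + 1))),
        (x : (cechK l hl X (q + 1)).carrier) ∈ (cechK l hl X (q + 1)).gr g ∧ φ x = y) := by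
  refine Iface.comparison a (cechK l hl X) (fun n => lin (cechD l hl X n))
    (fun n => isGrHom (cechD l hl X n)) (fun n x => congrArg (fun t => lin t x) (cechD_comp l hl X n))
    (fun x hx => ?_) (fun n x hx => ?_) (fun n E q => (cechK_hv a l hl hla X n).subsingleton E q) E
  · obtain ⟨n, hn⟩ := exists_pow_smul_mem' a l ha (⊥ : Submodule R (cechK l hl X 0).carrier) x
      (fun y hy => cech_zero l hl X hx y hy)
    exact ⟨n, hn⟩
  · exact exists_pow_smul_mem' a l ha _ x (fun y hy => cech_torsion l hl X n hx y hy)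

end Compare

/-! ### Vanishing beyond the number of generators -/

section Vanish

/-- `a ≤ rad (I + ann m)` for all `m`. -/
def TP (a I : Ideal R) (M : Type u) [AddCommGroup M] [Module R M] : Prop :=
  ∀ m : M, a ≤ (I ⊔ (Submodule.span R {m}).annihilator).radical

lemma TP.of_ann {a I : Ideal R} {M N : Type u} [AddCommGroup M] [Module R M] [AddCommGroup N] [Module R N]
    (h : TP a I M) (hN : ∀ n : N, ∃ m : M, ∀ r : R, r • m = 0 → r • n = 0) : TP a I N := by
  intro n
  obtain ⟨m, hm⟩ := hN n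
  refine (h m).trans (Ideal.radical_mono (sup_le_sup_left ?_ I))
  intro r hr
  rw [Submodule.mem_annihilator_span_singleton] at hr ⊢
  exact hm r hr

lemma TP.reduce {a : Ideal R} {x : R} {l : List R} {M : Type u} [AddCommGroup M] [Module R M]
    (h : TP a (Ideal.span {y | y ∈ x :: l}) M) (hx : ∀ m : M, ∃ n : ℕ, x ^ n • m = 0) :
    TP a (Ideal.span {y | y ∈ l}) M := by
  intro m
  refine (h m).trans ?_
  rw [← Ideal.radical_idem (Ideal.span {y | y ∈ l} ⊔ (Submodule.span R {m}).annihilator)]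
  refine Ideal.radical_mono (sup_le (Ideal.span_le.mpr fun y hy => ?_)
    (le_trans le_sup_right Ideal.le_radical))
  rcases List.mem_cons.mp hy with rfl | hy
  · obtain ⟨n, hn⟩ := hx m
    refine ⟨n, Ideal.mem_sup_right ?_⟩
    rw [Submodule.mem_annihilator_span_singleton]
    exact hn
  · exact Ideal.le_radical (Ideal.mem_sup_left (Ideal.subset_span hy))

variable [IsNoetherianRing R]

lemma tor_of_tp (a : HomogeneousIdeal 𝒜) (X : GMod.{u} 𝒜) (h : TP a.toIdeal (Ideal.span {y | y ∈ ([] : List R)}) X.carrier) :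
    Comp.Tor a X := by
  rw [Comp.tor_iff]
  intro m
  have h1 := h m
  have h2 : Ideal.span {y | y ∈ ([] : List R)} = ⊥ := by
    rw [eq_bot_iff, Ideal.span_le]
    intro y hy
    simp at hy
  rw [h2, bot_sup_eq] at h1
  obtain ⟨n, hn⟩ := Ideal.exists_pow_le_of_le_radical_of_fg h1 (IsNoetherian.noetherian a.toIdeal)
  refine ⟨n, fun r hr => ?_⟩
  have := hn hr
  rwa [Submodule.mem_annihilator_span_singleton] at this

theorem rd_isZero_of_tp (a : HomogeneousIdeal 𝒜) (l : List R) (hl : ∀ x ∈ l, ∃ d, x ∈ 𝒜 d)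
    (hla : ∀ x ∈ l, x ∈ a.toIdeal) : ∀ (X : GMod.{u} 𝒜), TP a.toIdeal (Ideal.span {y | y ∈ l}) X.carrier →
    ∀ i, l.length < i → IsZero (((Gam a).rightDerived i).obj X) := by
  induction l with
  | nil =>
    intro X hX i hi
    obtain ⟨n, rfl⟩ : ∃ n, i = n + 1 := ⟨i - 1, by simp at hi; omega⟩
    exact Comp.rd_of_tor a n X (tor_of_tp a X hX)
  | cons x l ih =>
    have ih' := ih (fun y hy => hl y (List.mem_cons_of_mem _ hy)) (fun y hy => hla y (List.mem_cons_of_mem _ hy))
    intro X hX i hi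
    rw [List.length_cons] at hi
    obtain ⟨j, rfl⟩ : ∃ j, i = j + 1 := ⟨i - 1, by omega⟩
    obtain ⟨d, hd⟩ := hl x List.mem_cons_self
    obtain ⟨w, hS⟩ := Comp.ses_ker_range (toLoc X hd)
    -- kernel
    have hker : TP a.toIdeal (Ideal.span {y | y ∈ l}) (kerObj (toLoc X hd)).carrier := by
      refine TP.reduce (x := x) (hX.of_ann fun k => ⟨lin (kerι (toLoc X hd)) k, fun r hr => ?_⟩) fun k => ?_
      · apply injective_of_mono (kerι (toLoc X hd))
        rw [map_smul, hr, map_zero]
      · obtain ⟨n, hn⟩ := (toLoc_eq_zero_iff X hd (lin (kerι (toLoc X hd)) k)).mp k.2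
        refine ⟨n, ?_⟩
        apply injective_of_mono (kerι (toLoc X hd))
        rw [map_smul, hn, map_zero]
    have hco : TP a.toIdeal (Ideal.span {y | y ∈ l}) (cokerObj (toLoc X hd)).carrier := by
      refine TP.reduce (x := x) (hX.of_ann fun q => ?_) fun q => ?_
      · obtain ⟨k, rfl⟩ := surjective_of_epi (cokerπ (toLoc X hd)) q
        obtain ⟨n, m, hm⟩ := toLoc_surj X hd k
        refine ⟨m, fun r hr => ?_⟩
        have hp : ∀ (n : ℕ) (l : (locObj X hd).carrier), x ^ n • l = 0 → l = 0 := by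
          intro n
          induction n with
          | zero => intro l hl; rwa [pow_zero, one_smul] at hl
          | succ n ih =>
            intro l hl
            rw [pow_succ', mul_smul] at hl
            apply ih l
            apply (locObj_bijective X hd).1
            exact hl.trans (smul_zero x).symm
        have h1 : r • k = 0 := by
          apply hp n
          rw [smul_comm, hm, ← map_smul, hr, map_zero]
        rw [← map_smul, h1, map_zero]
      · obtain ⟨k, rfl⟩ := surjective_of_epi (cokerπ (toLoc X hd)) q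
        obtain ⟨n, m, hm⟩ := toLoc_surj X hd k
        refine ⟨n, ?_⟩
        rw [← map_smul, hm]
        exact congrArg (fun t => lin t m) (comp_cokerπ (toLoc X hd))
    -- range
    have hS2w : subι (locObj X hd) (LinearMap.range (lin (toLoc X hd))) (isHomogeneous_range (toLoc X hd)) ≫
        cokerπ (toLoc X hd) = 0 := by
      refine hom_ext fun y => ?_
      obtain ⟨y, m, hm⟩ := y
      refine (congrArg (lin (cokerπ (toLoc X hd))) hm.symm).trans ?_
      exact congrArg (fun t => lin t m) (comp_cokerπ (toLoc X hd))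
    have hS2 : (ShortComplex.mk (subι (locObj X hd) (LinearMap.range (lin (toLoc X hd)))
        (isHomogeneous_range (toLoc X hd))) (cokerπ (toLoc X hd)) hS2w).ShortExact := by
      refine (shortExact_iff _).mpr ⟨Subtype.val_injective, fun y => ⟨fun hy => ?_, ?_⟩, ?_⟩
      · have h1 := (Submodule.Quotient.mk_eq_zero _).mp hy
        exact ⟨⟨y, h1⟩, rfl⟩
      · rintro ⟨z, rfl⟩
        exact congrArg (fun t => lin t z) hS2w
      · exact surjective_of_epi (cokerπ (toLoc X hd))
    have hloc : Iface.HV a (locObj X hd) :=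
      (Iface.Good.bij (s := {y | y ∈ x :: l}) (locObj X hd) x List.mem_cons_self (locObj_bijective X hd)).hv
        (fun y hy => ⟨hla y hy, hl y hy⟩)
    have h1 := Iface.rd_isZero_left a hS2 j (ih' _ hco j (by omega)) (hloc (j + 1))
    exact Iface.rd_isZero_mid a hS (j + 1) (ih' _ hker (j + 1) (by omega)) h1

end Vanish

end K963.Loc

namespace K963.Iface

variable {ι : Type} [AddCommGroup ι] [DecidableEq ι]
variable {R : Type u} [CommRing R] {σ : Type u} [SetLike σ R] [AddSubgroupClass σ R]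
variable {𝒜 : ι → σ} [GradedRing 𝒜]
variable {M : Type u} [AddCommGroup M] [Module R M] {τ : Type u} [SetLike τ M] [AddSubgroupClass τ M]
  {ℳ : ι → τ} [DirectSum.Decomposition ℳ] [SetLike.GradedSMul 𝒜 ℳ]

/-- `H^i_a(M) = 0` for `i > n` when `n` homogeneous elements of `a` generate `a` up to radical modulo the
annihilators of the elements of `M`. -/
theorem H_subsingleton_of_length_lt [IsNoetherianRing R] (E : StarInjRes 𝒜 ℳ) (a : HomogeneousIdeal 𝒜)
    (l : List R) (hl : ∀ x ∈ l, ∃ d, x ∈ 𝒜 d) (hla : ∀ x ∈ l, x ∈ a.toIdeal)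
    (hM : ∀ m : M, a.toIdeal ≤ (Ideal.span {y | y ∈ l} ⊔ (Submodule.span R {m}).annihilator).radical)
    (i : ℕ) (hi : l.length < i) : Subsingleton (E.H a i) := by
  have h := Loc.rd_isZero_of_tp a l hl hla (Cat.toGMod 𝒜 ℳ) hM i hi
  exact (Cat.isZero_iff _).mp (h.of_iso (Cat.rdIso E a i))

/-- `H^i_a(M) = 0` for `i > n` when `a ≤ rad (x_1, …, x_n)`. -/
theorem H_subsingleton_of_radical [IsNoetherianRing R] (E : StarInjRes 𝒜 ℳ) (a : HomogeneousIdeal 𝒜)
    (l : List R) (hl : ∀ x ∈ l, ∃ d, x ∈ 𝒜 d) (hla : ∀ x ∈ l, x ∈ a.toIdeal)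
    (ha : a.toIdeal ≤ (Ideal.span {y | y ∈ l}).radical)
    (i : ℕ) (hi : l.length < i) : Subsingleton (E.H a i) :=
  H_subsingleton_of_length_lt E a l hl hla (fun m => ha.trans (Ideal.radical_mono le_sup_left)) i hi

end K963.Iface
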