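import Groth.Agent.GrLC.K963.Gam

/-!
# Graded local cohomology computed from a *injective resolution is the right derived functor of `Gam a`
-/

set_option autoImplicit false
set_option linter.unusedVariables false
set_option linter.unusedSectionVars false
universe u

open CategoryTheory CategoryTheory.Limits GrLC

namespace K963.Cat

variable {ι : Type} [AddCommGroup ι] [DecidableEq ι]
variable {R : Type u} [CommRing R] {σ : Type u} [SetLike σ R] [AddSubgroupClass σ R]
variable {𝒜 : ι → σ} [GradedRing 𝒜]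
variable {M : Type u} [AddCommGroup M] [Module R M] {τ : Type u} [SetLike τ M] [AddSubgroupClass τ M]
  {ℳ : ι → τ} [DirectSum.Decomposition ℳ] [SetLike.GradedSMul 𝒜 ℳ]

section HObj

variable (E : StarInjRes 𝒜 ℳ) (a : HomogeneousIdeal 𝒜) (i : ℕ)

lemma resD_proj (n : ℕ) (g : ι) (x : (E.X n).carrier) :
    E.d n (Dec.proj (E.X n).gr g x) = Dec.proj (E.X (n + 1)).gr g (E.d n x) :=
  map_proj (resD E n) g x

lemma cocyc_isHomogeneous : (E.cocyc a i).IsHomogeneous (E.X i).gr := by
  intro g x hx
  refine ⟨gam_isHomogeneous a _ g hx.1, ?_⟩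
  have h : E.d i x = 0 := hx.2
  refine LinearMap.mem_ker.mpr ((resD_proj E i g x).trans ?_)
  rw [h, map_zero]

lemma cobdy_isHomogeneous : (E.cobdy a i).IsHomogeneous (E.X i).gr := by
  cases i with
  | zero =>
    intro g x hx
    have h : x = 0 := hx
    have h2 : Dec.proj (E.X 0).gr g x = 0 := by rw [h, map_zero]
    exact h2
  | succ n =>
    rintro g _ ⟨y, hy, rfl⟩
    exact ⟨Dec.proj (E.X n).gr g y, gam_isHomogeneous a _ g hy, resD_proj E n g y⟩

/-- The cocycles as a graded module. -/
noncomputable def cocycObj : GMod.{u} 𝒜 := subObj (E.X i) (E.cocyc a i) (cocyc_isHomogeneous E a i)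

/-- The coboundaries inside the cocycles. -/
noncomputable def bdy : Submodule R (cocycObj E a i).carrier :=
  (E.cobdy a i).comap (lin (subι (E.X i) (E.cocyc a i) (cocyc_isHomogeneous E a i)))

lemma bdy_isHomogeneous : (bdy E a i).IsHomogeneous (cocycObj E a i).gr := by
  intro g x hx
  have h1 := map_proj (subι (E.X i) (E.cocyc a i) (cocyc_isHomogeneous E a i)) g x
  change lin (subι (E.X i) (E.cocyc a i) (cocyc_isHomogeneous E a i))
    (Dec.proj (cocycObj E a i).gr g x) ∈ E.cobdy a i
  exact h1 ▸ cobdy_isHomogeneous E a i g hx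

/-- Auxiliary. -/
noncomputable def HObj' : GMod.{u} 𝒜 :=
  quotObj (cocycObj E a i) (bdy E a i) (bdy_isHomogeneous E a i)

lemma HObj'_gr : (HObj' E a i).gr = E.Hgr a i := by
  funext g
  ext x
  constructor
  · rintro ⟨z, hz, rfl⟩
    exact ⟨z, hz, rfl⟩
  · rintro ⟨z, hz, rfl⟩
    exact ⟨z, hz, rfl⟩

/-- The decomposition of graded local cohomology. -/
@[instance_reducible]
noncomputable def Hdec : DirectSum.Decomposition (E.Hgr a i) := HObj'_gr E a i ▸ (HObj' E a i).dec

/-- Graded local cohomology as a graded module. -/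
noncomputable def HObj : GMod.{u} 𝒜 where
  carrier := E.H a i
  gr := E.Hgr a i
  dec := Hdec E a i
  gsmul := HObj'_gr E a i ▸ (HObj' E a i).gsmul

/-- The class map. -/
noncomputable def toHObj : cocycObj E a i ⟶ HObj E a i :=
  mk (X := cocycObj E a i) (Y := HObj E a i) (E.toH a i) (fun g x hx => ⟨x, hx, rfl⟩)

/-- The complex `Γ_a(E)`. -/
noncomputable def gamCx : CochainComplex (GMod.{u} 𝒜) ℕ :=
  ((Gam a).mapHomologicalComplex (ComplexShape.up ℕ)).obj (resCx E)

lemma gamCx_d : (gamCx E a).d i (i + 1) = (Gam a).map (resD E i) :=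
  congrArg (Gam a).map (resCx_d E i)

/-- Cocycles into the concrete kernel. -/
noncomputable def zmk : cocycObj E a i ⟶ kerObj ((gamCx E a).d i (i + 1)) :=
  subLift _ (isHomogeneous_ker _)
    (mk (X := cocycObj E a i) (Y := (Gam a).obj (E.X i))
      (LinearMap.codRestrict (gam a.toIdeal (E.X i).carrier) (E.cocyc a i).subtype (fun x => x.2.1))
      (fun g x hx => hx))
    (fun z => by
      refine LinearMap.mem_ker.mpr ?_
      have h : E.d i ((show E.cocyc a i from z) : (E.X i).carrier) = 0 := z.2.2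
      rw [gamCx_d]
      exact gamι_injective a _ (h.trans (map_zero (lin (gamι a (E.X (i + 1))))).symm))

lemma zmk_apply (z : E.cocyc a i) :
    lin (gamι a (E.X i)) (lin (kerι ((gamCx E a).d i (i + 1))) (lin (zmk E a i) z)) = (z : (E.X i).carrier) :=
  rfl

lemma zmk_bijective : Function.Bijective (lin (zmk E a i)) := by
  constructor
  · intro x y hxy
    have h := congrArg (fun t => lin (gamι a (E.X i)) (lin (kerι ((gamCx E a).d i (i + 1))) t)) hxy
    exact Subtype.ext h
  · intro y
    have h0 : (lin ((gamCx E a).d i (i + 1))) (lin (kerι ((gamCx E a).d i (i + 1))) y) = 0 :=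
      congrArg (fun k => lin k y) (kerι_comp ((gamCx E a).d i (i + 1)))
    have h1 : (gamCx E a).d i (i + 1) = (Gam a).map (resD E i) := gamCx_d E a i
    have h2 : E.d i (lin (gamι a (E.X i)) (lin (kerι ((gamCx E a).d i (i + 1))) y)) = 0 := by
      have h3 := congrArg (fun k => lin k (lin (kerι ((gamCx E a).d i (i + 1))) y)) h1
      have h4 := h3.symm.trans h0
      exact (congrArg (lin (gamι a (E.X (i + 1)))) h4).trans (map_zero (lin (gamι a (E.X (i + 1)))))
    refine ⟨(⟨lin (gamι a (E.X i)) (lin (kerι ((gamCx E a).d i (i + 1))) y),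
      gamι_mem a _ _, h2⟩ : E.cocyc a i), ?_⟩
    apply injective_of_mono (kerι ((gamCx E a).d i (i + 1)))
    exact gamι_injective a _ rfl

/-- The class map to the homology of the complex. -/
noncomputable def cls : cocycObj E a i ⟶ (gamCx E a).homology i := zmk E a i ≫ cyc (gamCx E a) i

lemma cls_surjective : Function.Surjective (lin (cls E a i)) :=
  (cyc_surjective (gamCx E a) i).comp (zmk_bijective E a i).2

lemma cls_eq_zero_iff (z : E.cocyc a i) : lin (cls E a i) z = 0 ↔ (z : (E.X i).carrier) ∈ E.cobdy a i := by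
  cases i with
  | zero =>
    refine (cyc_eq_zero_iff (gamCx E a) 0 0 (by simp) (lin (zmk E a 0) z)).trans ?_
    have h0 : (gamCx E a).d 0 0 = 0 := (gamCx E a).shape 0 0 (by simp)
    constructor
    · rintro ⟨y, hy⟩
      rw [h0] at hy
      have h1 : (0 : ((Gam a).obj (E.X 0)).carrier) = (lin (zmk E a 0) z).1 := hy
      have h2 := congrArg (lin (gamι a (E.X 0))) h1
      rw [map_zero] at h2
      exact h2.symm
    · intro h
      refine ⟨0, ?_⟩
      rw [h0]
      have h1 : (z : (E.X 0).carrier) = 0 := h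
      exact gamι_injective a _ ((map_zero (lin (gamι a (E.X 0)))).trans h1.symm)
  | succ n =>
    refine (cyc_eq_zero_iff (gamCx E a) (n + 1) n (by simp) (lin (zmk E a (n + 1)) z)).trans ?_
    constructor
    · rintro ⟨y, hy⟩
      rw [gamCx_d] at hy
      exact ⟨lin (gamι a (E.X n)) y, gamι_mem a _ y, congrArg (lin (gamι a (E.X (n + 1)))) hy⟩
    · rintro ⟨y, hy, hyz⟩
      refine ⟨gmk a _ y hy, ?_⟩
      rw [gamCx_d]
      exact gamι_injective a _ hyz

/-- The comparison map. -/
noncomputable def Hto : HObj E a i ⟶ (gamCx E a).homology i :=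
  mk (X := HObj E a i) (((E.cobdy a i).comap (E.cocyc a i).subtype).liftQ (lin (cls E a i))
    (fun z hz => (cls_eq_zero_iff E a i z).mpr hz))
    (fun g x hx => by
      obtain ⟨z, hz, rfl⟩ := hx
      exact isGrHom (cls E a i) g z hz)

lemma Hto_toH (z : E.cocyc a i) : lin (Hto E a i) (E.toH a i z) = lin (cls E a i) z := rfl

lemma Hto_bijective : Function.Bijective (lin (Hto E a i)) := by
  constructor
  · rw [injective_iff_map_eq_zero]
    intro x hx
    obtain ⟨z, rfl⟩ := Submodule.mkQ_surjective _ x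
    exact (Submodule.Quotient.mk_eq_zero _).mpr ((cls_eq_zero_iff E a i z).mp hx)
  · intro y
    obtain ⟨z, rfl⟩ := cls_surjective E a i y
    exact ⟨E.toH a i z, rfl⟩

/-- `H^i` computed from `E` is the homology of `Γ_a(E)`. -/
noncomputable def Hiso : HObj E a i ≅ (gamCx E a).homology i := isoOfBijective (Hto E a i) (Hto_bijective E a i)

/-- The homology of `Γ_a(E)` is the right derived functor. -/
noncomputable def rdI : (gamCx E a).homology i ≅ ((Gam a).rightDerived i).obj (toGMod 𝒜 ℳ) :=
  ((resOf E).isoRightDerivedObj (Gam a) i).symm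

/-- `H^i` computed from `E` is the right derived functor of `Gam a`. -/
noncomputable def rdIso : HObj E a i ≅ ((Gam a).rightDerived i).obj (toGMod 𝒜 ℳ) :=
  Hiso E a i ≪≫ rdI E a i

end HObj

/-! ### Functoriality in degree zero -/

section Map

variable {N : Type u} [AddCommGroup N] [Module R N] {τN : Type u} [SetLike τN N] [AddSubgroupClass τN N]
  {𝒩 : ι → τN} [DirectSum.Decomposition 𝒩] [SetLike.GradedSMul 𝒜 𝒩]
variable (E : StarInjRes 𝒜 ℳ) (F : StarInjRes 𝒜 𝒩) (a : HomogeneousIdeal 𝒜) (i : ℕ)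

/-- The map on graded local cohomology induced by a morphism of graded modules. -/
noncomputable def HmapG (f : toGMod 𝒜 ℳ ⟶ toGMod 𝒜 𝒩) : HObj E a i ⟶ HObj F a i :=
  (rdIso E a i).hom ≫ ((Gam a).rightDerived i).map f ≫ (rdIso F a i).inv

variable {E F}

omit a i in
/-- A family of maps commuting with the differentials gives a morphism of complexes. -/
noncomputable def cxMap (φ : ∀ n, E.X n ⟶ F.X n) (h : ∀ n, φ n ≫ resD F n = resD E n ≫ φ (n + 1)) :
    resCx E ⟶ resCx F :=
  CochainComplex.ofHom φ (fun n => by rw [resCx_d, resCx_d]; exact h n)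

/-- The induced map on the homology of `Γ_a`. -/
noncomputable def gamMap (φ : resCx E ⟶ resCx F) : (gamCx E a).homology i ⟶ (gamCx F a).homology i :=
  HomologicalComplex.homologyMap (((Gam a).mapHomologicalComplex (ComplexShape.up ℕ)).map φ) i

lemma rdI_naturality (f : toGMod 𝒜 ℳ ⟶ toGMod 𝒜 𝒩) (φ : resCx E ⟶ resCx F)
    (hφ : resε E ≫ φ.f 0 = f ≫ resε F) :
    ((Gam a).rightDerived i).map f ≫ (rdI F a i).inv = (rdI E a i).inv ≫ gamMap a i φ :=
  InjectiveResolution.isoRightDerivedObj_hom_naturality f (resOf E) (resOf F) φ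
    (by
      have e1 : (resOf E).ι.f 0 = resε E := resι_f_zero E
      have e2 : (resOf F).ι.f 0 = resε F := resι_f_zero F
      refine (congrArg (fun t => t ≫ φ.f 0) e1).trans (hφ.trans ?_)
      exact congrArg (fun t => f ≫ t) e2.symm) (Gam a) i

lemma HmapG_comp_Hto (f : toGMod 𝒜 ℳ ⟶ toGMod 𝒜 𝒩) (φ : resCx E ⟶ resCx F)
    (hφ : resε E ≫ φ.f 0 = f ≫ resε F) :
    HmapG E F a i f ≫ Hto F a i = Hto E a i ≫ gamMap a i φ := by
  have h2 : (Hiso F a i).inv ≫ Hto F a i = 𝟙 _ := (Hiso F a i).inv_hom_id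
  have h3 : (Hiso E a i).hom = Hto E a i := rfl
  rw [HmapG, rdIso, rdIso, Iso.trans_hom, Iso.trans_inv, Category.assoc,
    Category.assoc, Category.assoc, Category.assoc, h2, Category.comp_id, rdI_naturality a i f φ hφ, h3,
    Iso.hom_inv_id_assoc]

/-- `HmapG` on classes. -/
lemma HmapG_toH (f : toGMod 𝒜 ℳ ⟶ toGMod 𝒜 𝒩) (φ : ∀ n, E.X n ⟶ F.X n)
    (h : ∀ n, φ n ≫ resD F n = resD E n ≫ φ (n + 1)) (h0 : resε E ≫ φ 0 = f ≫ resε F)
    (z : E.cocyc a i) (w : F.cocyc a i) (hw : (w : (F.X i).carrier) = lin (φ i) z) :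
    lin (HmapG E F a i f) (E.toH a i z) = F.toH a i w := by
  apply injective_of_mono (Hiso F a i).hom
  have h1 := congrArg (fun t => lin t (E.toH a i z)) (HmapG_comp_Hto a i f (cxMap φ h) h0)
  refine h1.trans ?_
  change lin (gamMap a i (cxMap φ h)) (lin (cls E a i) z) = lin (cls F a i) w
  have h2 := congrArg (fun t => lin t (lin (zmk E a i) z))
    (cyc_naturality i (((Gam a).mapHomologicalComplex (ComplexShape.up ℕ)).map (cxMap φ h)))
  refine h2.trans ?_
  change lin (cyc (gamCx F a) i) _ = lin (cyc (gamCx F a) i) (lin (zmk F a i) w)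
  congr 1
  apply injective_of_mono (kerι ((gamCx F a).d i (i + 1)))
  apply gamι_injective a
  exact hw.symm

end Map

end K963.Cat
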