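import Groth.Agent.GrLC.K963.Inj

/-!
# *Injective resolutions and injective resolutions in the category of graded modules
-/

set_option autoImplicit false
set_option linter.unusedVariables false
set_option linter.unusedSectionVars false
universe u

open CategoryTheory CategoryTheory.Limits GrLC

namespace K963.Cat

variable {ι : Type} [AddCommGroup ι] [DecidableEq ι]
variable {R : Type u} [CommRing R] {σ : Type u} [SetLike σ R] [AddSubgroupClass σ R]
variable {𝒜 : ι → σ} [GradedRing 𝒜]
variable {M : Type u} [AddCommGroup M] [Module R M] {τ : Type u} [SetLike τ M] [AddSubgroupClass τ M]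
  {ℳ : ι → τ} [DirectSum.Decomposition ℳ] [SetLike.GradedSMul 𝒜 ℳ]

/-- The differential of a *injective resolution. -/
abbrev resD (E : StarInjRes 𝒜 ℳ) (n : ℕ) : E.X n ⟶ E.X (n + 1) := mk (E.d n) (E.d_grHom n)

/-- The augmentation of a *injective resolution. -/
noncomputable abbrev resε (E : StarInjRes 𝒜 ℳ) : toGMod 𝒜 ℳ ⟶ E.X 0 :=
  mk (X := toGMod 𝒜 ℳ) E.ε (fun g x hx => E.ε_grHom g x hx)

lemma resD_comp (E : StarInjRes 𝒜 ℳ) (n : ℕ) : resD E n ≫ resD E (n + 1) = 0 :=
  hom_ext fun x => by
    have : E.d n x ∈ LinearMap.ker (E.d (n + 1)) := by rw [E.exact_succ]; exact ⟨x, rfl⟩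
    exact this

lemma resε_comp (E : StarInjRes 𝒜 ℳ) : resε E ≫ resD E 0 = 0 :=
  hom_ext fun x => by
    have : E.ε x ∈ LinearMap.ker (E.d 0) := by rw [E.exact_zero]; exact ⟨x, rfl⟩
    exact this

/-- The complex of a *injective resolution. -/
noncomputable def resCx (E : StarInjRes 𝒜 ℳ) : CochainComplex (GMod.{u} 𝒜) ℕ :=
  CochainComplex.of E.X (resD E) (resD_comp E)

@[simp] lemma resCx_X (E : StarInjRes 𝒜 ℳ) (n : ℕ) : (resCx E).X n = E.X n := rfl

lemma resCx_d (E : StarInjRes 𝒜 ℳ) (n : ℕ) : (resCx E).d n (n + 1) = resD E n :=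
  CochainComplex.of_d _ _ _

lemma resCx_exactAt (E : StarInjRes 𝒜 ℳ) (n : ℕ) : (resCx E).ExactAt (n + 1) := by
  rw [HomologicalComplex.exactAt_iff' _ n (n + 1) (n + 1 + 1) (by simp) (by simp), exact_iff]
  intro x hx
  change lin ((resCx E).d (n + 1) (n + 1 + 1)) x = 0 at hx
  rw [resCx_d] at hx
  have : x ∈ LinearMap.ker (E.d (n + 1)) := hx
  rw [E.exact_succ] at this
  obtain ⟨y, hy⟩ := this
  refine ⟨y, ?_⟩
  change lin ((resCx E).d n (n + 1)) y = x
  rw [resCx_d]; exact hy

lemma mono_resε (E : StarInjRes 𝒜 ℳ) : Mono (resε E) := mono_of_injective _ E.ε_injective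

/-- The augmentation as a morphism of complexes. -/
noncomputable def resι (E : StarInjRes 𝒜 ℳ) :
    (CochainComplex.single₀ (GMod.{u} 𝒜)).obj (toGMod 𝒜 ℳ) ⟶ resCx E :=
  (CochainComplex.fromSingle₀Equiv _ _).symm ⟨resε E, by rw [resCx_d]; exact resε_comp E⟩

lemma resι_f_zero (E : StarInjRes 𝒜 ℳ) : (resι E).f 0 = resε E :=
  CochainComplex.fromSingle₀Equiv_symm_apply_f_zero _ _

/-- The injective resolution attached to a *injective resolution. -/
noncomputable def resOf (E : StarInjRes 𝒜 ℳ) : InjectiveResolution (toGMod 𝒜 ℳ) where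
  cocomplex := resCx E
  injective n := (injective_iff (E.X n)).mpr (E.starInj n)
  ι := resι E
  quasiIso := ⟨fun n => by
    cases n with
    | zero =>
      rw [CochainComplex.quasiIsoAt₀_iff, ShortComplex.quasiIso_iff_of_zeros]
      · refine (ShortComplex.exact_and_mono_f_iff_of_iso ?_).2
          (⟨(exact_iff (ShortComplex.mk (resε E) (resD E 0) (resε_comp E))).mpr (fun x hx => ?_),
            mono_resε E⟩)
        · refine ShortComplex.isoMk (Iso.refl _) (Iso.refl _) (Iso.refl _) ?_ ?_
          · refine (Category.id_comp _).trans (Eq.trans ?_ (Category.comp_id _).symm)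
            exact (resι_f_zero E).symm
          · refine (Category.id_comp _).trans (Eq.trans ?_ (Category.comp_id _).symm)
            exact (resCx_d E 0).symm
        · have : x ∈ LinearMap.ker (E.d 0) := hx
          rw [E.exact_zero] at this
          exact this
      all_goals rfl
    | succ n =>
      rw [quasiIsoAt_iff_exactAt]
      · apply resCx_exactAt
      · apply CochainComplex.exactAt_succ_single_obj⟩

/-- A *injective resolution from an injective resolution. -/
noncomputable def ofRes (I : InjectiveResolution (toGMod 𝒜 ℳ)) : StarInjRes 𝒜 ℳ where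
  X n := I.cocomplex.X n
  d n := lin (I.cocomplex.d n (n + 1))
  ε := lin (X := toGMod 𝒜 ℳ) (I.ι.f 0)
  d_grHom n := isGrHom _
  ε_grHom g x hx := isGrHom (X := toGMod 𝒜 ℳ) (I.ι.f 0) g x hx
  ε_injective := (mono_iff (X := toGMod 𝒜 ℳ) (I.ι.f 0)).mp (inferInstanceAs (Mono (I.ι.f 0)))
  exact_zero := by
    apply le_antisymm
    · intro x hx
      exact (exact_iff _).mp I.exact₀ x hx
    · rintro _ ⟨y, rfl⟩
      exact congrArg (fun k => lin k y) I.ι_f_zero_comp_complex_d
  exact_succ n := by
    apply le_antisymm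
    · intro x hx
      exact (exact_iff _).mp (I.exact_succ n) x hx
    · rintro _ ⟨y, rfl⟩
      exact congrArg (fun k => lin k y) (I.cocomplex.d_comp_d n (n + 1) (n + 1 + 1))
  starInj n := (injective_iff _).mp (I.injective n)

variable (𝒜 ℳ) in
theorem nonempty_starInjRes : Nonempty (StarInjRes 𝒜 ℳ) :=
  ⟨ofRes (InjectiveResolution.of (toGMod 𝒜 ℳ))⟩

end K963.Cat
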