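import Groth.Agent.GrLC.K963.Iface

/-!
# Vanishing corollaries of the long exact sequence
-/

set_option autoImplicit false
set_option linter.unusedVariables false
set_option linter.unusedSectionVars false
universe u

open CategoryTheory CategoryTheory.Limits GrLC
open scoped K963.Cat

namespace K963.Iface

variable {ι : Type} [AddCommGroup ι] [DecidableEq ι]
variable {R : Type u} [CommRing R] {σ : Type u} [SetLike σ R] [AddSubgroupClass σ R]
variable {𝒜 : ι → σ} [GradedRing 𝒜]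
variable {M : Type u} [AddCommGroup M] [Module R M] {τ : Type u} [SetLike τ M] [AddSubgroupClass τ M]
  {ℳ : ι → τ} [DirectSum.Decomposition ℳ] [SetLike.GradedSMul 𝒜 ℳ]
variable {N : Type u} [AddCommGroup N] [Module R N] {τN : Type u} [SetLike τN N] [AddSubgroupClass τN N]
  {𝒩 : ι → τN} [DirectSum.Decomposition 𝒩] [SetLike.GradedSMul 𝒜 𝒩]
variable {P : Type u} [AddCommGroup P] [Module R P] {τP : Type u} [SetLike τP P] [AddSubgroupClass τP P]
  {𝒬 : ι → τP} [DirectSum.Decomposition 𝒬] [SetLike.GradedSMul 𝒜 𝒬]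

/-- A homogeneous element in the range of a homogeneous map comes from a homogeneous element. -/
theorem exists_homog_of_mem_range {f : M →ₗ[R] N} {d : ι} (hf : IsGrHomDeg ℳ 𝒩 f d) {g : ι} {y : N}
    (hy : y ∈ 𝒩 g) (h : y ∈ LinearMap.range f) : ∃ x ∈ ℳ (g - d), f x = y := by
  obtain ⟨x, rfl⟩ := h
  refine ⟨Dec.proj ℳ (g - d) x, Dec.proj_mem ℳ _ x, ?_⟩
  rw [map_proj_deg f hf, sub_add_cancel, Dec.proj_of_mem 𝒩 hy]

section
variable (E : StarInjRes 𝒜 ℳ) (F : StarInjRes 𝒜 𝒩) (G : StarInjRes 𝒜 𝒬) (a : HomogeneousIdeal 𝒜)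
variable {f : M →ₗ[R] N} {g : N →ₗ[R] P} {df dg : ι} (hf : IsGrHomDeg ℳ 𝒩 f df)
    (hg : IsGrHomDeg 𝒩 𝒬 g dg) (hinj : Function.Injective f) (hex : Function.Exact f g)
    (hsurj : Function.Surjective g)

include hf hg hinj hex hsurj

theorem subsingleton_mid (i : ℕ) (hE : Subsingleton (E.H a i)) (hG : Subsingleton (G.H a i)) :
    Subsingleton (F.H a i) := by
  obtain ⟨δ, h0, h1, h2, h3, h4⟩ := les E F G a hf hg hinj hex hsurj
  have h : ∀ x : F.H a i, x = 0 := by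
    intro x
    obtain ⟨y, hy⟩ := (h2 i x).mp (Subsingleton.elim _ _)
    rw [← hy, Subsingleton.elim y 0, map_zero]
  exact ⟨fun x y => (h x).trans (h y).symm⟩

theorem subsingleton_right (i : ℕ) (hF : Subsingleton (F.H a i)) (hE : Subsingleton (E.H a (i + 1))) :
    Subsingleton (G.H a i) := by
  obtain ⟨δ, h0, h1, h2, h3, h4⟩ := les E F G a hf hg hinj hex hsurj
  have h : ∀ x : G.H a i, x = 0 := by
    intro x
    obtain ⟨y, hy⟩ := (h3 i x).mp (Subsingleton.elim _ _)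
    rw [← hy, Subsingleton.elim y 0, map_zero]
  exact ⟨fun x y => (h x).trans (h y).symm⟩

theorem subsingleton_left (i : ℕ) (hG : Subsingleton (G.H a i)) (hF : Subsingleton (F.H a (i + 1))) :
    Subsingleton (E.H a (i + 1)) := by
  obtain ⟨δ, h0, h1, h2, h3, h4⟩ := les E F G a hf hg hinj hex hsurj
  have h : ∀ x : E.H a (i + 1), x = 0 := by
    intro x
    obtain ⟨y, hy⟩ := (h4 i x).mp (Subsingleton.elim _ _)
    rw [← hy, Subsingleton.elim y 0, map_zero]
  exact ⟨fun x y => (h x).trans (h y).symm⟩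

include G in
theorem subsingleton_left_zero (hF : Subsingleton (F.H a 0)) : Subsingleton (E.H a 0) := by
  obtain ⟨δ, h0, h1, h2, h3, h4⟩ := les E F G a hf hg hinj hex hsurj
  exact ⟨fun x y => h1 (Subsingleton.elim _ _)⟩

theorem Hcomp_mid_eq_bot (i : ℕ) (d : ι) (hE : E.Hcomp a i (d - df) = ⊥) (hG : G.Hcomp a i (d + dg) = ⊥) :
    F.Hcomp a i d = ⊥ := by
  let _ := Hdec E a i
  let _ := Hdec F a i
  obtain ⟨δ, h0, h1, h2, h3, h4⟩ := les E F G a hf hg hinj hex hsurj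
  refine (Submodule.eq_bot_iff _).mpr fun x hx => ?_
  have hgx : Hmap F G a i g hg x = 0 := by
    have := Hmap_mem F G a i hg hx
    rw [hG] at this
    exact this
  obtain ⟨y, hy, hyx⟩ := exists_homog_of_mem_range (ℳ := E.Hgr a i) (𝒩 := F.Hgr a i)
    (f := Hmap E F a i f hf) (fun k x hx => Hmap_mem E F a i hf hx) (g := d) hx ((h2 i x).mp hgx)
  have hy' : y ∈ E.Hcomp a i (d - df) := hy
  rw [hE] at hy'
  have hy0 : y = 0 := hy'
  rw [← hyx, hy0, map_zero]

theorem Hcomp_right_eq_bot (i : ℕ) (d : ι) (hF : F.Hcomp a i (d - dg) = ⊥)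
    (hE : E.Hcomp a (i + 1) (d - dg - df) = ⊥) : G.Hcomp a i d = ⊥ := by
  let _ := Hdec F a i
  let _ := Hdec G a i
  obtain ⟨δ, h0, h1, h2, h3, h4⟩ := les E F G a hf hg hinj hex hsurj
  refine (Submodule.eq_bot_iff _).mpr fun x hx => ?_
  have hgx : δ i x = 0 := by
    have := h0 i d x hx
    rw [hE] at this
    exact this
  obtain ⟨y, hy, hyx⟩ := exists_homog_of_mem_range (ℳ := F.Hgr a i) (𝒩 := G.Hgr a i)
    (f := Hmap F G a i g hg) (fun k x hx => Hmap_mem F G a i hg hx) (g := d) hx ((h3 i x).mp hgx)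
  have hy' : y ∈ F.Hcomp a i (d - dg) := hy
  rw [hF] at hy'
  have hy0 : y = 0 := hy'
  rw [← hyx, hy0, map_zero]

theorem Hcomp_left_eq_bot (i : ℕ) (d : ι) (hG : G.Hcomp a i (d + df + dg) = ⊥)
    (hF : F.Hcomp a (i + 1) (d + df) = ⊥) : E.Hcomp a (i + 1) d = ⊥ := by
  let _ := Hdec G a i
  let _ := Hdec E a (i + 1)
  obtain ⟨δ, h0, h1, h2, h3, h4⟩ := les E F G a hf hg hinj hex hsurj
  refine (Submodule.eq_bot_iff _).mpr fun x hx => ?_
  have hgx : Hmap E F a (i + 1) f hf x = 0 := by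
    have := Hmap_mem E F a (i + 1) hf hx
    rw [hF] at this
    exact this
  obtain ⟨y, hy, hyx⟩ := exists_homog_of_mem_range (ℳ := G.Hgr a i) (𝒩 := E.Hgr a (i + 1))
    (f := δ i) (d := - dg - df) (fun k x hx => by
      have := h0 i k x hx
      rw [sub_sub, sub_eq_add_neg, neg_add] at this
      rw [sub_eq_add_neg]
      exact this) (g := d) hx ((h4 i x).mp hgx)
  have hy' : y ∈ G.Hcomp a i (d - (-dg - df)) := hy
  have e : d - (-dg - df) = d + df + dg := by abel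
  rw [e, hG] at hy'
  have hy0 : y = 0 := hy'
  rw [← hyx, hy0, map_zero]

end

/-- All graded local cohomology vanishes. -/
def HV (a : HomogeneousIdeal 𝒜) (X : GMod.{u} 𝒜) : Prop :=
  ∀ i, IsZero (((Cat.Gam a).rightDerived i).obj X)

theorem HV.subsingleton {a : HomogeneousIdeal 𝒜} {X : GMod.{u} 𝒜} (h : HV a X) (E : StarInjRes 𝒜 X.gr)
    (i : ℕ) : Subsingleton (E.H a i) := by
  have h1 := (h i).of_iso (Cat.rdIso E a i ≪≫ ((Cat.Gam a).rightDerived i).mapIso (toGModIso X))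
  exact (Cat.isZero_iff _).mp h1

theorem isZero_rd_iff {a : HomogeneousIdeal 𝒜} {X : GMod.{u} 𝒜} (E : StarInjRes 𝒜 X.gr) (i : ℕ) :
    IsZero (((Cat.Gam a).rightDerived i).obj X) ↔ Subsingleton (E.H a i) := by
  have e := Cat.rdIso E a i ≪≫ ((Cat.Gam a).rightDerived i).mapIso (toGModIso X)
  constructor
  · intro h
    exact (Cat.isZero_iff _).mp (h.of_iso e)
  · intro h
    have h1 : IsZero (Cat.HObj E a i) := (Cat.isZero_iff _).mpr h
    exact h1.of_iso e.symm

theorem hv_iff {a : HomogeneousIdeal 𝒜} {X : GMod.{u} 𝒜} :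
    HV a X ↔ ∀ (E : StarInjRes 𝒜 X.gr) (i : ℕ), Subsingleton (E.H a i) := by
  constructor
  · intro h E i; exact h.subsingleton E i
  · intro h i
    obtain ⟨E⟩ := nonempty_res 𝒜 X.gr
    exact (isZero_rd_iff E i).mpr (h E i)

theorem rd_isZero_mid (a : HomogeneousIdeal 𝒜) {S : ShortComplex (GMod.{u} 𝒜)} (hS : S.ShortExact) (i : ℕ)
    (h₁ : IsZero (((Cat.Gam a).rightDerived i).obj S.X₁)) (h₃ : IsZero (((Cat.Gam a).rightDerived i).obj S.X₃)) :
    IsZero (((Cat.Gam a).rightDerived i).obj S.X₂) := by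
  obtain ⟨-, e, -⟩ := Groth.Agent.Cohder.RDLES.exists_les (Cat.Gam a) hS
  exact (e i (Comp.rd_map_comp_zero (Cat.Gam a) hS i)).isZero_of_both_zeros (h₁.eq_of_src _ _) (h₃.eq_of_tgt _ _)

theorem rd_isZero_right (a : HomogeneousIdeal 𝒜) {S : ShortComplex (GMod.{u} 𝒜)} (hS : S.ShortExact) (i : ℕ)
    (h₂ : IsZero (((Cat.Gam a).rightDerived i).obj S.X₂))
    (h₁ : IsZero (((Cat.Gam a).rightDerived (i + 1)).obj S.X₁)) :
    IsZero (((Cat.Gam a).rightDerived i).obj S.X₃) := by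
  obtain ⟨-, -, δ, hδ⟩ := Groth.Agent.Cohder.RDLES.exists_les (Cat.Gam a) hS
  obtain ⟨w₁, w₂, h, h'⟩ := hδ i
  exact h.isZero_of_both_zeros (h₂.eq_of_src _ _) (h₁.eq_of_tgt _ _)

theorem rd_isZero_left (a : HomogeneousIdeal 𝒜) {S : ShortComplex (GMod.{u} 𝒜)} (hS : S.ShortExact) (i : ℕ)
    (h₃ : IsZero (((Cat.Gam a).rightDerived i).obj S.X₃))
    (h₂ : IsZero (((Cat.Gam a).rightDerived (i + 1)).obj S.X₂)) :
    IsZero (((Cat.Gam a).rightDerived (i + 1)).obj S.X₁) :=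
  Comp.zero_X₁ (Cat.Gam a) hS i h₃ h₂

/-- `Good s X`: `X` is an iterated extension of graded modules on each of which some element of `s` acts
bijectively. -/
inductive Good (s : Set R) : GMod.{u} 𝒜 → Prop
  | bij (X : GMod.{u} 𝒜) (x : R) (hx : x ∈ s) (h : Function.Bijective (fun m : X.carrier => x • m)) : Good s X
  | zero (X : GMod.{u} 𝒜) (h : Subsingleton X.carrier) : Good s X
  | ext (S : ShortComplex (GMod.{u} 𝒜)) (hS : S.ShortExact) (h₁ : Good s S.X₁) (h₃ : Good s S.X₃) : Good s S.X₂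

theorem Good.of_iso {s : Set R} {X Y : GMod.{u} 𝒜} (e : X ≅ Y) (h : Good s X) : Good s Y := by
  have hw : e.hom ≫ (0 : Y ⟶ Cat.zeroObj 𝒜) = 0 := comp_zero
  have hS : (ShortComplex.mk e.hom (0 : Y ⟶ Cat.zeroObj 𝒜) hw).ShortExact :=
    (Cat.shortExact_iff _).mpr ⟨(Cat.bijective_of_isIso e.hom).1,
      fun y => ⟨fun _ => (Cat.bijective_of_isIso e.hom).2 y, fun _ => rfl⟩,
      fun y => ⟨0, @Subsingleton.elim _ (show Subsingleton PUnit from inferInstance) _ _⟩⟩
  exact Good.ext _ hS h (Good.zero _ (show Subsingleton PUnit from inferInstance))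

theorem Good.prod {s : Set R} {X Y : GMod.{u} 𝒜} (hX : Good s X) (hY : Good s Y) :
    Good s (Cat.prodObj X Y) := by
  let i : X ⟶ Cat.prodObj X Y := Cat.mk (Y := Cat.prodObj X Y) (LinearMap.inl R X.carrier Y.carrier)
    (fun g x hx => ⟨hx, zero_mem _⟩)
  let p : Cat.prodObj X Y ⟶ Y := Cat.mk (X := Cat.prodObj X Y) (LinearMap.snd R X.carrier Y.carrier)
    (fun g x hx => hx.2)
  have hw : i ≫ p = 0 := rfl
  have hS : (ShortComplex.mk i p hw).ShortExact := by
    refine (Cat.shortExact_iff _).mpr ⟨?_, ?_, ?_⟩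
    · exact LinearMap.inl_injective
    · rintro ⟨x, y⟩
      constructor
      · intro h
        have h' : y = 0 := h
        exact ⟨x, Prod.ext rfl h'.symm⟩
      · rintro ⟨x', hx'⟩
        exact (congrArg Prod.snd hx').symm
    · exact LinearMap.snd_surjective
  exact Good.ext _ hS hX hY

theorem Good.mono {s t : Set R} (h : s ⊆ t) {X : GMod.{u} 𝒜} (hX : Good s X) : Good t X := by
  induction hX with
  | bij X x hx hb => exact Good.bij X x (h hx) hb
  | zero X h => exact Good.zero X h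
  | ext S hS _ _ h₁ h₃ => exact Good.ext S hS h₁ h₃

/-- `Good` modules have no local cohomology. -/
theorem Good.hv {s : Set R} {a : HomogeneousIdeal 𝒜} (hs : ∀ x ∈ s, x ∈ a.toIdeal ∧ ∃ d, x ∈ 𝒜 d)
    {X : GMod.{u} 𝒜} (hX : Good s X) : HV a X := by
  induction hX with
  | bij X x hx hb =>
    obtain ⟨hxa, d, hd⟩ := hs x hx
    exact hv_iff.mpr fun E i => H_subsingleton_of_bijective E a i hd hxa hb
  | zero X h =>
    intro i
    have h0 : IsZero X := (Cat.isZero_iff X).mpr h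
    have h1 : 𝟙 (((Cat.Gam a).rightDerived i).obj X) = 0 := by
      rw [← CategoryTheory.Functor.map_id, h0.eq_of_src (𝟙 X) 0, rightDerived_map_zero]
    exact (IsZero.iff_id_eq_zero _).mpr h1
  | ext S hS _ _ h₁ h₃ => exact fun i => rd_isZero_mid a hS i (h₁ i) (h₃ i)

end K963.Iface
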